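import Mathlib

/-!
Checks in the alternating group of degree five: a five-cycle, its normaliser, involutions.
-/

set_option autoImplicit false
set_option maxRecDepth 100000

namespace H77
namespace Eleven

open Finset

/-- permutations of five letters -/
abbrev P5 : Type := Equiv.Perm (Fin 5)

/-- the five-cycle -/
def s0 : P5 := finRotate 5

/-- an involution inverting the five-cycle -/
def u0 : P5 := Equiv.swap 1 4 * Equiv.swap 2 3

/-- the powers of the five-cycle -/
def pows : List P5 := [1, s0, s0 * s0, s0 * s0 * s0, s0 * s0 * s0 * s0]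

/-- the even permutations -/
def evens : Finset P5 := univ.filter fun v => Equiv.Perm.sign v = 1

theorem u0_spec : Equiv.Perm.sign u0 = 1 ∧ u0 * u0 = 1 ∧ u0 ≠ 1 ∧ u0 ∉ pows ∧
    u0 * s0 * u0⁻¹ = s0⁻¹ := by decide +kernel

theorem s0_spec : Equiv.Perm.sign s0 = 1 ∧ s0 ^ 5 = 1 ∧ s0 ≠ 1 := by decide +kernel

theorem center_five : ∀ v : P5, Equiv.Perm.sign v = 1 →
    (∀ w : P5, Equiv.Perm.sign w = 1 → v * w = w * v) → v = 1 := by decide +kernel

theorem conj_s0 : ∀ s : P5, s * s * s * s * s = 1 → s ≠ 1 → ∃ p : P5, p * s * p⁻¹ = s0 := by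
  decide +kernel

theorem norm_s0 : ∀ v : P5, Equiv.Perm.sign v = 1 → v * s0 * v⁻¹ ∈ pows →
    v ∈ pows ∨ u0 * v ∈ pows := by decide +kernel

theorem pows_inv : ∀ v ∈ pows, u0 * v * u0⁻¹ = v⁻¹ := by decide +kernel

theorem pows_invol : ∀ v ∈ pows, v * v = 1 → v = 1 := by decide +kernel

theorem pows_prime : ∀ v ∈ pows, v ≠ 1 → s0 ∈ [v, v * v, v * v * v, v * v * v * v] := by
  decide +kernel

theorem pows_mul : ∀ a ∈ pows, ∀ b ∈ pows, a * b ∈ pows := by decide +kernel

theorem agree_model : ∀ u : P5, Equiv.Perm.sign u = 1 → u * u = 1 → u ≠ 1 →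
    ((evens ×ˢ (evens.filter fun w => w * w = 1 ∧ w ≠ 1)).filter
      fun p => (u * p.1)⁻¹ * (p.2 * p.1) ∈ pows).card = 140 := by decide +kernel

theorem pows_iff {v : P5} : v ∈ pows ↔ v ∈ Subgroup.zpowers s0 := by
  constructor
  · intro hv
    simp only [pows, List.mem_cons, List.not_mem_nil, or_false] at hv
    have hm := Subgroup.mem_zpowers s0
    rcases hv with rfl | rfl | rfl | rfl | rfl
    · exact one_mem _
    · exact hm
    · exact mul_mem hm hm
    · exact mul_mem (mul_mem hm hm) hm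
    · exact mul_mem (mul_mem (mul_mem hm hm) hm) hm
  · intro hv
    have hfin : IsOfFinOrder s0 := isOfFinOrder_of_finite s0
    obtain ⟨n, rfl⟩ := hfin.mem_powers_iff_mem_zpowers.mpr hv
    show s0 ^ n ∈ pows
    induction n with
    | zero => simp [pows]
    | succ n ih =>
      rw [pow_succ]
      exact pows_mul _ (ih ⟨n, rfl⟩) _ (by simp [pows])

end Eleven
end H77
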