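import Cfsg.Agent.H77.Eleven.JBasic
import Cfsg.Agent.H77.Eleven.JModel

/-!
The centraliser of an involution of `J₁` acting on the twelve Sylow 11-subgroups fixed by it.
-/

set_option autoImplicit false
set_option maxRecDepth 100000

namespace H77
namespace Eleven

open Subgroup
open H63.Eleven (cj mem_cj cj_cj cj_one ActsAs)

universe u

variable {K : Type u} [Group K]

theorem card_cj (g : K) (A : Subgroup K) : Nat.card ↥(cj g A) = Nat.card A :=
  card_map_of_injective (MulEquiv.injective _)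

theorem cj_eq_iff {a b : K} {A : Subgroup K} : cj a A = cj b A ↔ cj (a⁻¹ * b) A = A := by
  constructor
  · intro h
    rw [← cj_cj, ← h, cj_cj, inv_mul_cancel, cj_one]
  · intro h
    conv_lhs => rw [← h, cj_cj, mul_inv_cancel_left]

omit [Group K] in
theorem pow_five_sq {G : Type*} [Group G] {t : G} (ht2 : t * t = 1) : t ^ 5 = t := by
  simp [pow_succ, ht2]

theorem commute_cj {t c : K} {A : Subgroup K} (hc : c * t = t * c) (hA : cj t A = A) :
    cj t (cj c A) = cj c A := by rw [cj_cj, ← hc, ← cj_cj, hA]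

variable [Finite K] (h : Cfsg.Spor.IsoJ1 K)
include h

theorem j_cent_equiv {t : K} (ht : orderOf t = 2) :
    Nonempty (↥(centralizer ({t} : Set K)) ≃*
      Multiplicative (ZMod 2) × ↥(alternatingGroup (Fin 5))) := by
  have hh := h
  obtain ⟨e⟩ := hh
  obtain ⟨n, hn⟩ := j_invol_conj h ht
    (show orderOf (e.symm H97.J1.tInv) = 2 from
      (orderOf_injective e.symm.toMonoidHom e.symm.injective _).trans H97.J1.orderOf_tInv)
  let f : K ≃* J11 := (MulAut.conj n).trans e
  have hf : f t = H97.J1.tInv := by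
    show e (MulAut.conj n t) = _
    rw [MulAut.conj_apply, hn, e.apply_symm_apply]
  have hmap : (centralizer ({t} : Set K)).map f.toMonoidHom =
      centralizer ({H97.J1.tInv} : Set J11) := by
    ext x
    rw [mem_map_equiv, mem_centralizer_singleton_iff, mem_centralizer_singleton_iff, ← hf]
    constructor
    · intro e1
      have := congrArg f e1
      rwa [map_mul, map_mul, f.apply_symm_apply] at this
    · intro e1
      apply f.injective
      rwa [map_mul, map_mul, f.apply_symm_apply]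
  obtain ⟨e'⟩ := H97.J1.nonempty_centEquiv
  exact ⟨((f.subgroupMap _).trans (MulEquiv.subgroupCongr hmap)).trans e'⟩

theorem j_card_cent {t : K} (ht : orderOf t = 2) :
    Nat.card ↥(centralizer ({t} : Set K)) = 120 := by
  obtain ⟨e⟩ := j_cent_equiv h ht
  rw [Nat.card_congr e.toEquiv, Nat.card_prod, nat_card_alternatingGroup, Nat.card_fin,
    show Nat.card (Multiplicative (ZMod 2)) = 2 from Nat.card_zmod 2]
  rfl

/-- the stabiliser in the centraliser has order ten and the orbit is everything -/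
theorem j_orbit {t : K} (ht : orderOf t = 2) {A : Subgroup K} (hA : Nat.card A = 11)
    (htA : cj t A = A) :
    Nat.card {c : centralizer ({t} : Set K) // cj (c : K) A = A} = 10 ∧
      ∀ B : Subgroup K, Nat.card B = 11 → cj t B = B →
        ∃ c : centralizer ({t} : Set K), cj (c : K) A = B := by
  haveI : Fact (Nat.Prime 11) := ⟨by norm_num⟩
  haveI : IsCyclic A := isCyclic_of_prime_card hA
  set C := centralizer ({t} : Set K) with hC
  set N := normalizer (A : Set K) with hN
  set S : Subgroup C := (C ⊓ N).subgroupOf C with hS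
  have hmem : ∀ c : C, c ∈ S ↔ cj (c : K) A = A := fun c => by
    rw [hS, mem_subgroupOf, mem_inf, hN, mem_normalizer_iff_cj]
    exact and_iff_right c.2
  let ψ : ↥(C ⊓ N) →* MulAut A := A.normalizerMonoidHom.comp (inclusion inf_le_right)
  have hinj : Function.Injective ψ := by
    rw [injective_iff_map_eq_one]
    intro x hx
    have hxc : (x : K) ∈ centralizer (A : Set K) := by
      have h1 : inclusion inf_le_right x ∈ A.normalizerMonoidHom.ker := hx
      rw [normalizerMonoidHom_ker, mem_subgroupOf] at h1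
      exact h1
    rw [j_centralizer h hA] at hxc
    have h2 := j_invol_inverts h hA ht htA hxc
    have h3 : (x : K) * t = t * x := mem_centralizer_singleton_iff.mp x.2.1
    rw [← h3, mul_inv_cancel_right] at h2
    by_contra hne
    have hne' : (x : K) ≠ 1 := fun e => hne (Subtype.ext e)
    have h4 : (x : K) ^ 2 = 1 := by rw [pow_two]; exact eq_inv_iff_mul_eq_one.mp h2
    have h5 := orderOf_dvd_of_pow_eq_one h4
    rw [orderOf_eleven hA hxc hne'] at h5
    norm_num at h5
  have hS10 : Nat.card S ≤ 10 := by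
    rw [Nat.card_congr (subgroupOfEquivOfLe inf_le_left).toEquiv]
    have := Nat.card_le_card_of_injective ψ hinj
    rwa [IsCyclic.card_mulAut, hA, Nat.totient_prime (by norm_num)] at this
  let F := {B : Subgroup K // Nat.card B = 11 ∧ cj t B = B}
  let f : C → F := fun c => ⟨cj (c : K) A, by rw [card_cj, hA],
    commute_cj (mem_centralizer_singleton_iff.mp c.2) htA⟩
  let g : C ⧸ S → F := Quotient.lift f fun a b hab => by
    have h1 : a⁻¹ * b ∈ S := QuotientGroup.leftRel_apply.mp hab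
    rw [hmem] at h1
    exact Subtype.ext (cj_eq_iff.mpr (by simpa using h1))
  have hg : Function.Injective g := by
    rintro ⟨a⟩ ⟨b⟩ e
    refine Quotient.sound (QuotientGroup.leftRel_apply.mpr ?_)
    rw [hmem]
    simpa using cj_eq_iff.mp (congrArg Subtype.val e)
  have hF : Nat.card F = 12 := j_fix_twelve h ht
  have hidx := Nat.card_le_card_of_injective g hg
  have hm := S.card_mul_index
  rw [j_card_cent h ht] at hm
  rw [hF, ← index] at hidx
  have hS' : Nat.card S = 10 := by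
    have := Nat.mul_le_mul_left (Nat.card S) hidx
    omega
  refine ⟨(Nat.card_congr (Equiv.subtypeEquivRight fun c => (hmem c).symm)).trans hS',
    fun B hB htB => ?_⟩
  have hbij : Function.Bijective g := (Nat.bijective_iff_injective_and_card g).mpr ⟨hg, by
    rw [hF, ← index]; rw [hS'] at hm; omega⟩
  obtain ⟨⟨c⟩, hc⟩ := hbij.2 ⟨B, hB, htB⟩
  exact ⟨c, congrArg Subtype.val hc⟩

omit h in
/-- a model of the action on the fixed points -/
structure Model (t : K) (A : Subgroup K) where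
  /-- the map to permutations -/
  φ : ↥(centralizer ({t} : Set K)) →* P5
  ker : ∀ c, φ c = 1 ↔ (c : K) = 1 ∨ (c : K) = t
  even : ∀ c, Equiv.Perm.sign (φ c) = 1
  surj : ∀ v, Equiv.Perm.sign v = 1 → ∃ c, φ c = v
  stab : ∀ c : ↥(centralizer ({t} : Set K)), cj (c : K) A = A ↔ φ c ∈ pows

theorem exists_model {t : K} (ht : orderOf t = 2) {A : Subgroup K} (hA : Nat.card A = 11)
    (htA : cj t A = A) : Nonempty (Model t A) := by
  haveI : Fact (Nat.Prime 5) := ⟨by norm_num⟩
  set C := centralizer ({t} : Set K) with hC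
  obtain ⟨e⟩ := j_cent_equiv h ht
  let φ0 : C →* P5 :=
    (alternatingGroup (Fin 5)).subtype.comp ((MonoidHom.snd _ _).comp e.toMonoidHom)
  have he0 : ∀ c : C, Equiv.Perm.sign (φ0 c) = 1 := fun c =>
    Equiv.Perm.mem_alternatingGroup.mp (e c).2.2
  have hs0 : ∀ v, Equiv.Perm.sign v = 1 → ∃ c, φ0 c = v := fun v hv =>
    ⟨e.symm (1, ⟨v, Equiv.Perm.mem_alternatingGroup.mpr hv⟩), by simp [φ0]⟩
  have ht2 : t * t = 1 := by rw [← pow_two, ← ht, pow_orderOf_eq_one]
  have ht1 : t ≠ 1 := fun e1 => by rw [e1, orderOf_one] at ht; norm_num at ht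
  let tC : C := ⟨t, mem_centralizer_singleton_iff.mpr rfl⟩
  have ht0 : φ0 tC = 1 := center_five _ (he0 _) fun w hw => by
    obtain ⟨c, rfl⟩ := hs0 w hw
    rw [← map_mul, ← map_mul]
    exact congrArg φ0 (Subtype.ext (mem_centralizer_singleton_iff.mp c.2).symm)
  have hker : ∀ c : C, φ0 c = 1 ↔ (c : K) = 1 ∨ (c : K) = t := by
    intro c
    constructor
    · intro hc
      have hc' : (e c).2 = 1 := Subtype.ext hc
      have ht' : (e tC).2 = 1 := Subtype.ext ht0
      have hz : ∀ z : Multiplicative (ZMod 2), z = 1 ∨ z = Multiplicative.ofAdd 1 := by decide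
      have htne : (e tC).1 ≠ 1 := fun e1 => ht1 (congrArg Subtype.val
        ((MulEquiv.map_eq_one_iff e).mp (Prod.ext e1 ht')))
      rcases hz (e c).1 with h1 | h1
      · exact Or.inl (congrArg Subtype.val ((MulEquiv.map_eq_one_iff e).mp (Prod.ext h1 hc')))
      · exact Or.inr (congrArg Subtype.val (show c = tC from e.injective
          (Prod.ext (h1.trans ((hz (e tC).1).resolve_left htne).symm) (hc'.trans ht'.symm))))
    · rintro (h1 | h1)
      · rw [show c = 1 from Subtype.ext h1, map_one]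
      · rw [show c = tC from Subtype.ext h1, ht0]
  obtain ⟨hS10, -⟩ := j_orbit h ht hA htA
  let S : Subgroup C := (normalizer (A : Set K)).subgroupOf C
  have hmem : ∀ c : C, c ∈ S ↔ cj (c : K) A = A := fun c =>
    mem_subgroupOf.trans mem_normalizer_iff_cj
  have hS : Nat.card S = 10 := (Nat.card_congr (Equiv.subtypeEquivRight hmem)).trans hS10
  obtain ⟨y, hy⟩ := exists_prime_orderOf_dvd_card' (G := S) 5 (by rw [hS]; norm_num)
  rw [← orderOf_coe] at hy
  have hyp : φ0 y * φ0 y * φ0 y * φ0 y * φ0 y = 1 := by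
    have h5 := pow_orderOf_eq_one (y : C)
    rw [hy] at h5
    rw [← map_mul, ← map_mul, ← map_mul, ← map_mul]
    rw [show (y : C) * y * y * y * y = (y : C) ^ 5 by simp [pow_succ, mul_assoc], h5, map_one]
  have hy1 : φ0 y ≠ 1 := fun e1 => by
    rcases (hker y).mp e1 with h1 | h1
    · rw [show (y : C) = 1 from Subtype.ext h1, orderOf_one] at hy
      norm_num at hy
    · rw [← orderOf_coe, h1, ht] at hy
      norm_num at hy
  obtain ⟨p, hp⟩ := conj_s0 _ hyp hy1
  let φ : C →* P5 := (MulAut.conj p).toMonoidHom.comp φ0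
  have hφ : ∀ c, φ c = p * φ0 c * p⁻¹ := fun c => rfl
  have hφker : ∀ c : C, φ c = 1 ↔ (c : K) = 1 ∨ (c : K) = t := fun c => by
    rw [hφ, ← hker, conj_eq_one_iff]
  -- the stabiliser is the full preimage
  have hle : zpowers s0 ≤ S.map φ := zpowers_le.mpr ⟨(y : C), y.2, by rw [hφ, hp]⟩
  have hkerS : Nat.card (φ.comp S.subtype).ker = 2 := by
    refine Nat.card_eq_two_iff.mpr ⟨⟨1, one_mem _⟩, ⟨⟨tC, (hmem _).mpr htA⟩, ?_⟩, ?_, ?_⟩
    · exact (hφker tC).mpr (Or.inr rfl)
    · intro e1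
      exact ht1 (congrArg (fun x : (φ.comp S.subtype).ker => (((x : S) : C) : K)) e1).symm
    · refine Set.eq_univ_of_forall fun x => ?_
      rcases (hφker ((x : S) : C)).mp x.2 with h1 | h1
      · exact Or.inl (Subtype.ext (Subtype.ext (Subtype.ext h1)))
      · exact Or.inr (Subtype.ext (Subtype.ext (Subtype.ext h1)))
  have hcard : Nat.card (S.map φ) = 5 := by
    have h1 := (φ.comp S.subtype).ker.card_mul_index
    rw [index_ker, hkerS, hS, MonoidHom.range_comp, range_subtype] at h1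
    omega
  have heq : zpowers s0 = S.map φ := by
    refine eq_of_le_of_card_ge hle ?_
    rw [hcard, Nat.card_zpowers, orderOf_eq_prime s0_spec.2.1 s0_spec.2.2]
  have hsign : ∀ c, Equiv.Perm.sign (φ c) = 1 := fun c => by
    rw [hφ, map_mul, map_mul, he0, mul_one, map_inv, mul_inv_cancel]
  refine ⟨⟨φ, hφker, hsign, fun v hv => ?_, fun c => ?_⟩⟩
  · obtain ⟨c, hc⟩ := hs0 (p⁻¹ * v * p) (by
      rw [map_mul, map_mul, hv, mul_one, map_inv, inv_mul_cancel])
    exact ⟨c, by rw [hφ, hc]; group⟩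
  · rw [pows_iff, heq, ← hmem]
    constructor
    · exact fun hc => mem_map_of_mem φ hc
    · rintro ⟨d, hd, hdc⟩
      have hk : φ (d⁻¹ * c) = 1 := by rw [map_mul, map_inv, hdc, inv_mul_cancel]
      rcases (hφker _).mp hk with h1 | h1
      · rwa [← inv_mul_eq_one.mp (show d⁻¹ * c = 1 from Subtype.ext h1)]
      · rw [show c = d * tC by rw [← show d⁻¹ * c = tC from Subtype.ext h1, mul_inv_cancel_left]]
        exact mul_mem hd ((hmem _).mpr htA)

/-- a lift of an involution is an involution -/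
theorem Model.lift_invol {t : K} {A : Subgroup K} (ht : orderOf t = 2) (M : Model t A)
    (c : ↥(centralizer ({t} : Set K))) :
    (orderOf (c : K) = 2 ∧ (c : K) ≠ t) ↔ (M.φ c * M.φ c = 1 ∧ M.φ c ≠ 1) := by
  constructor
  · rintro ⟨h2, hne⟩
    refine ⟨?_, fun e => ?_⟩
    · rw [← map_mul, show c * c = 1 from Subtype.ext (by
        rw [coe_mul, OneMemClass.coe_one, ← pow_two, ← h2, pow_orderOf_eq_one]), map_one]
    · rcases (M.ker c).mp e with h1 | h1
      · rw [h1, orderOf_one] at h2; norm_num at h2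
      · exact hne h1
  · rintro ⟨h2, hne⟩
    rw [← map_mul] at h2
    have hc1 : (c : K) ≠ 1 := fun e => hne ((M.ker c).mpr (Or.inl e))
    refine ⟨?_, fun e => hne ((M.ker c).mpr (Or.inr e))⟩
    rcases (M.ker _).mp h2 with h1 | h1
    · exact orderOf_eq_prime (by rw [pow_two]; exact h1) hc1
    · exfalso
      have ht1 : t ≠ 1 := fun e1 => by rw [e1, orderOf_one] at ht; norm_num at ht
      refine j_no_four h (c : K) (orderOf_eq_prime_pow (p := 2) (n := 1) ?_ ?_)
      · rw [pow_one, pow_two]; exact fun e => ht1 (h1.symm.trans e)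
      · rw [show (2 : ℕ) ^ (1 + 1) = 2 + 2 from rfl, pow_add, pow_two,
          show (c : K) * c = t from h1, ← pow_two, ← ht, pow_orderOf_eq_one]

theorem j_cent_trans {t : K} (ht : orderOf t = 2) {A B : Subgroup K} (hA : Nat.card A = 11)
    (hB : Nat.card B = 11) (htA : cj t A = A) (htB : cj t B = B) :
    ∃ c : K, c * t = t * c ∧ cj c A = B := by
  obtain ⟨c, hc⟩ := (j_orbit h ht hA htA).2 B hB htB
  exact ⟨c, mem_centralizer_singleton_iff.mp c.2, hc⟩

theorem j_cent_gen {t : K} (ht : orderOf t = 2) :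
    closure {x : K | orderOf x = 2 ∧ x * t = t * x} = centralizer ({t} : Set K) := by
  set H := closure {x : K | orderOf x = 2 ∧ x * t = t * x} with hH
  have hle : H ≤ centralizer ({t} : Set K) :=
    (closure_le _).mpr fun x hx => mem_centralizer_singleton_iff.mpr hx.2
  refine le_antisymm hle fun x hx => ?_
  obtain ⟨⟨A, hA, htA⟩⟩ : Nonempty {A : Subgroup K // Nat.card A = 11 ∧ cj t A = A} :=
    (Nat.card_ne_zero.mp (by rw [j_fix_twelve h ht]; norm_num)).1
  obtain ⟨M⟩ := exists_model h ht hA htA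
  -- the images of the involutions generate the alternating group
  let T : Set (alternatingGroup (Fin 5)) := {v | v * v = 1}
  have hT : closure T = ⊤ := by
    have hn : (closure T).Normal := by
      refine ⟨fun n hn g => ?_⟩
      induction hn using closure_induction with
      | mem z hz => exact subset_closure (show g * z * g⁻¹ * (g * z * g⁻¹) = 1 by
          rw [show g * z * g⁻¹ * (g * z * g⁻¹) = g * (z * z) * g⁻¹ by group,
            show z * z = 1 from hz]; group)
      | one => simp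
      | mul a b _ _ ha hb =>
        rw [show g * (a * b) * g⁻¹ = g * a * g⁻¹ * (g * b * g⁻¹) by group]
        exact mul_mem ha hb
      | inv a _ ha =>
        rw [show g * a⁻¹ * g⁻¹ = (g * a * g⁻¹)⁻¹ by group]
        exact inv_mem ha
    refine (alternatingGroup.isSimpleGroup_five.eq_bot_or_eq_top_of_normal _ hn).resolve_left ?_
    intro e
    have hu : (⟨u0, Equiv.Perm.mem_alternatingGroup.mpr u0_spec.1⟩ : alternatingGroup (Fin 5)) ∈
        closure T := subset_closure (Subtype.ext u0_spec.2.1)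
    rw [e, mem_bot] at hu
    exact u0_spec.2.2.1 (congrArg Subtype.val hu)
  have htH : t ∈ H := subset_closure ⟨ht, rfl⟩
  have key : ∀ v ∈ closure T, ∀ c : centralizer ({t} : Set K), M.φ c = v → (c : K) ∈ H := by
    have hone : ∀ c : centralizer ({t} : Set K), M.φ c = 1 → (c : K) ∈ H := fun c hc => by
      rcases (M.ker c).mp hc with h1 | h1
      · rw [h1]; exact one_mem H
      · rw [h1]; exact htH
    intro v hv
    induction hv using closure_induction with
    | mem z hz =>
      intro c hc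
      by_cases h1 : M.φ c = 1
      · exact hone c h1
      · have h2 := ((Model.lift_invol h ht M c).mpr ⟨by
          rw [hc]; exact congrArg Subtype.val hz, h1⟩).1
        exact subset_closure ⟨h2, mem_centralizer_singleton_iff.mp c.2⟩
    | one => intro c hc; exact hone c hc
    | mul a b _ _ ha hb =>
      intro c hc
      obtain ⟨d, hd⟩ := M.surj (a : P5) (Equiv.Perm.mem_alternatingGroup.mp a.2)
      have h1 := ha d hd
      have h2 := hb (d⁻¹ * c) (by rw [map_mul, map_inv, hd, hc, coe_mul, inv_mul_cancel_left])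
      rw [coe_mul, coe_inv] at h2
      simpa using mul_mem h1 h2
    | inv a _ ha =>
      intro c hc
      have := ha c⁻¹ (by rw [map_inv, hc, coe_inv, inv_inv])
      simpa using inv_mem this
  exact key ⟨M.φ ⟨x, hx⟩, Equiv.Perm.mem_alternatingGroup.mpr (M.even _)⟩ (hT ▸ mem_top _)
    ⟨x, hx⟩ rfl

/-- the data of the axis through a fixed point -/
theorem Model.axis {t : K} {A : Subgroup K} (ht : orderOf t = 2) (hA : Nat.card A = 11)
    (htA : cj t A = A) (M : Model t A) :
    ∃ w : ↥(centralizer ({t} : Set K)), M.φ w = u0 ∧ orderOf (w : K) = 2 ∧ (w : K) * w = 1 ∧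
      cj (w : K) A ≠ A ∧
      (∀ c, M.φ c ∈ pows → M.φ (w * c * w⁻¹) = (M.φ c)⁻¹) ∧
      ∀ g : ↥(centralizer ({t} : Set K)), M.φ g ≠ 1 → cj (g : K) A = A → ∀ B : Subgroup K,
        Nat.card B = 11 → cj t B = B → cj (g : K) B = B → B = A ∨ B = cj (w : K) A := by
  obtain ⟨w, hw⟩ := M.surj u0 u0_spec.1
  have hw2 := ((Model.lift_invol h ht M w).mpr ⟨by rw [hw]; exact u0_spec.2.1,
    by rw [hw]; exact u0_spec.2.2.1⟩).1
  have hww : (w : K) * w = 1 := by rw [← pow_two, ← hw2, pow_orderOf_eq_one]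
  refine ⟨w, hw, hw2, hww, fun e => u0_spec.2.2.2.1 (hw ▸ (M.stab w).mp e), fun c hc => ?_, ?_⟩
  · rw [map_mul, map_mul, map_inv, hw]
    exact pows_inv _ hc
  intro g hg hgA B hB htB hgB
  obtain ⟨c, hc⟩ := (j_orbit h ht hA htA).2 B hB htB
  have h1 : M.φ (c⁻¹ * g * c) ∈ pows := (M.stab _).mp (by
    rw [coe_mul, coe_mul, coe_inv, ← cj_cj, hc, ← cj_cj, hgB, ← hc, cj_cj, inv_mul_cancel, cj_one])
  have hgp := (M.stab g).mp hgA
  have h2 : M.φ c⁻¹ * s0 * (M.φ c⁻¹)⁻¹ ∈ pows := by
    rw [pows_iff]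
    have h3 := pows_iff.mp h1
    rw [map_mul, map_mul] at h3
    have hp := pows_prime _ hgp hg
    simp only [List.mem_cons, List.not_mem_nil, or_false] at hp
    rw [map_inv, inv_inv]
    rw [map_inv] at h3
    generalize zpowers s0 = Z at h3 ⊢
    rcases hp with e | e | e | e <;> rw [e]
    · exact h3
    · rw [show (M.φ c)⁻¹ * (M.φ g * M.φ g) * M.φ c = (M.φ c)⁻¹ * M.φ g * M.φ c *
        ((M.φ c)⁻¹ * M.φ g * M.φ c) by group]
      exact mul_mem h3 h3
    · rw [show (M.φ c)⁻¹ * (M.φ g * M.φ g * M.φ g) * M.φ c = (M.φ c)⁻¹ * M.φ g * M.φ c *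
        ((M.φ c)⁻¹ * M.φ g * M.φ c) * ((M.φ c)⁻¹ * M.φ g * M.φ c) by group]
      exact mul_mem (mul_mem h3 h3) h3
    · rw [show (M.φ c)⁻¹ * (M.φ g * M.φ g * M.φ g * M.φ g) * M.φ c = (M.φ c)⁻¹ * M.φ g * M.φ c *
        ((M.φ c)⁻¹ * M.φ g * M.φ c) * ((M.φ c)⁻¹ * M.φ g * M.φ c) *
        ((M.φ c)⁻¹ * M.φ g * M.φ c) by group]
      exact mul_mem (mul_mem (mul_mem h3 h3) h3) h3
  rcases norm_s0 _ (M.even _) h2 with e | e
  · left
    have hmem : M.φ c ∈ pows := by
      rw [pows_iff] at e ⊢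
      rw [map_inv] at e
      exact inv_mem_iff.mp e
    rw [← hc, (M.stab c).mpr hmem]
  · right
    have h4 : M.φ (w * c) ∈ pows := by
      rw [map_inv] at e
      have hu : u0⁻¹ = u0 := inv_eq_of_mul_eq_one_left u0_spec.2.1
      have h5 := pows_inv _ (show (u0 * (M.φ c)⁻¹)⁻¹ ∈ pows from
        pows_iff.mpr (inv_mem (pows_iff.mp e)))
      rw [inv_inv, mul_inv_rev, inv_inv] at h5
      rw [map_mul, hw, show u0 * M.φ c = u0 * (M.φ c * u0⁻¹) * u0⁻¹ by
        rw [← mul_assoc u0 (M.φ c), mul_assoc (u0 * M.φ c), ← mul_inv_rev, u0_spec.2.1, inv_one,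
          mul_one], h5]
      exact e
    have h5 := (M.stab _).mpr h4
    rw [coe_mul, ← cj_cj, hc] at h5
    conv_rhs => rw [← h5]
    rw [cj_cj, hww, cj_one]

theorem j_axis {t : K} (ht : orderOf t = 2) {A : Subgroup K} (hA : Nat.card A = 11)
    (htA : cj t A = A) :
    ∃ B : Subgroup K, Nat.card B = 11 ∧ B ≠ A ∧ cj t B = B ∧
      ∃ y w : K, orderOf y = 5 ∧ y * t = t * y ∧ cj y A = A ∧ cj y B = B ∧
        (∀ C : Subgroup K, Nat.card C = 11 → cj t C = C → cj y C = C → C = A ∨ C = B) ∧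
        orderOf w = 2 ∧ w * t = t * w ∧ cj w A = B ∧ cj w B = A ∧ w * y * w⁻¹ = y⁻¹ := by
  obtain ⟨M⟩ := exists_model h ht hA htA
  obtain ⟨w, hw, hw2, hww, hwA, hinv, honly⟩ := Model.axis h ht hA htA M
  obtain ⟨c, hc⟩ := M.surj s0 s0_spec.1
  have hwt := mem_centralizer_singleton_iff.mp w.2
  have ht2 : t * t = 1 := by rw [← pow_two, ← ht, pow_orderOf_eq_one]
  have ht1 : t ≠ 1 := fun e1 => by rw [e1, orderOf_one] at ht; norm_num at ht
  have hct := mem_centralizer_singleton_iff.mp c.2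
  -- the element of order five above the five-cycle
  obtain ⟨y, hy5, hys⟩ : ∃ y : centralizer ({t} : Set K), orderOf (y : K) = 5 ∧ M.φ y = s0 := by
    haveI : Fact (Nat.Prime 5) := ⟨by norm_num⟩
    have h5 : M.φ (c ^ 5) = 1 := by rw [map_pow, hc]; exact s0_spec.2.1
    have hne : ∀ d, M.φ d = s0 → (d : K) ≠ 1 := fun d hd e =>
      s0_spec.2.2 (hd ▸ (M.ker d).mpr (Or.inl e))
    rcases (M.ker _).mp h5 with h1 | h1
    · exact ⟨c, orderOf_eq_prime (by rw [← SubgroupClass.coe_pow]; exact h1) (hne c hc), hc⟩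
    · let tC : centralizer ({t} : Set K) := ⟨t, mem_centralizer_singleton_iff.mpr rfl⟩
      have hd : M.φ (c * tC) = s0 := by rw [map_mul, (M.ker tC).mpr (Or.inr rfl), mul_one, hc]
      refine ⟨c * tC, orderOf_eq_prime ?_ (hne _ hd), hd⟩
      rw [coe_mul, (show Commute (c : K) t from hct).mul_pow, ← SubgroupClass.coe_pow, h1,
        pow_five_sq ht2, ht2]
  have hyt := mem_centralizer_singleton_iff.mp y.2
  have hyA : cj (y : K) A = A := (M.stab y).mpr (by rw [hys]; simp [pows])
  have hwy : (w : K) * y * (w : K)⁻¹ = (y : K)⁻¹ := by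
    have h1 : M.φ (w * y * w⁻¹ * y) = 1 := by
      rw [map_mul, hinv y (by rw [hys]; simp [pows]), inv_mul_cancel]
    rcases (M.ker _).mp h1 with h2 | h2
    · rw [coe_mul, coe_mul, coe_mul, coe_inv] at h2
      exact eq_inv_of_mul_eq_one_left h2
    · exfalso
      rw [coe_mul, coe_mul, coe_mul, coe_inv] at h2
      have h3 : (w : K) * y * (w : K)⁻¹ = t * (y : K)⁻¹ := eq_mul_inv_of_mul_eq h2
      have h4 := congrArg (fun k => k ^ 5) h3
      have hy5' : (y : K) ^ 5 = 1 := by rw [← hy5, pow_orderOf_eq_one]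
      rw [conj_pow, hy5', mul_one, mul_inv_cancel,
        ((show Commute (y : K) t from hyt).symm.inv_right).mul_pow, inv_pow, hy5', inv_one, mul_one,
        pow_five_sq ht2] at h4
      exact ht1 h4.symm
  have hB : Nat.card ↥(cj (w : K) A) = 11 := by rw [card_cj, hA]
  have hyB : cj (y : K) (cj (w : K) A) = cj (w : K) A := by
    rw [cj_cj, show (y : K) * w = w * (y : K)⁻¹ by
      rw [← hwy, inv_eq_of_mul_eq_one_left hww, ← mul_assoc, ← mul_assoc, hww, one_mul],
      ← cj_cj]
    congr 1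
    conv_lhs => rw [← hyA, cj_cj, inv_mul_cancel, cj_one]
  refine ⟨cj (w : K) A, hB, hwA, commute_cj hwt htA, y, w, hy5, hyt, hyA, hyB, ?_, hw2, hwt, rfl,
    by rw [cj_cj, hww, cj_one], hwy⟩
  intro C hC htC hyC
  exact honly y (by rw [hys]; exact s0_spec.2.2) hyA C hC htC hyC

omit h in
theorem cj_of_actsAs {g : K} {A : Subgroup K} {i : ℕ} (hi : ActsAs g A i) : cj g A = A := by
  refine eq_of_le_of_card_ge ?_ (card_cj g A).ge
  rintro _ ⟨a, ha, rfl⟩
  show g * a * g⁻¹ ∈ A
  rw [hi a ha]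
  exact pow_mem ha i

theorem j_pair_mult {t g : K} (ht : orderOf t = 2) {A B : Subgroup K} (hA : Nat.card A = 11)
    (hB : Nat.card B = 11) (hne : A ≠ B) (htA : cj t A = A) (htB : cj t B = B)
    (hg : g * t = t * g) {i j : ℕ} (hi : ActsAs g A i) (hj : ActsAs g B j) :
    i * j % 11 = 1 := by
  obtain ⟨M⟩ := exists_model h ht hA htA
  haveI : Fact (Nat.Prime 11) := ⟨by norm_num⟩
  obtain ⟨a, ha⟩ := exists_prime_orderOf_dvd_card' (G := A) 11 (hA ▸ dvd_rfl)
  rw [← orderOf_coe] at ha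
  obtain ⟨a, hamem⟩ := a
  simp only at ha
  have hmod : ∀ m n, a ^ m = a ^ n → m % 11 = n % 11 := fun m n e => by
    rwa [pow_inj_mod, ha] at e
  let gC : centralizer ({t} : Set K) := ⟨g, mem_centralizer_singleton_iff.mpr hg⟩
  by_cases hg1 : M.φ gC = 1
  · obtain ⟨b, hb⟩ := exists_prime_orderOf_dvd_card' (G := B) 11 (hB ▸ dvd_rfl)
    rw [← orderOf_coe] at hb
    have hbmod : ∀ m n, (b : K) ^ m = (b : K) ^ n → m % 11 = n % 11 := fun m n e => by
      rwa [pow_inj_mod, hb] at e
    rcases (M.ker gC).mp hg1 with e | e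
    · have hge : g = 1 := e
      subst hge
      have h1 := hmod i 1 (by rw [← hi a hamem]; group)
      have h2 := hbmod j 1 (by rw [← hj b b.2]; group)
      rw [Nat.mul_mod, h1, h2]
    · have hge : g = t := e
      subst hge
      have hinv : ∀ x : K, orderOf x = 11 → x⁻¹ = x ^ 10 := fun x hx => by
        apply inv_eq_of_mul_eq_one_left
        rw [← pow_succ]
        have h11 := pow_orderOf_eq_one x
        rw [hx] at h11
        exact h11
      have h1 := hmod i 10 (by rw [← hi a hamem, j_invol_inverts h hA ht htA hamem, hinv a ha])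
      have h2 := hbmod j 10 (by rw [← hj b b.2, j_invol_inverts h hB ht htB b.2, hinv _ hb])
      rw [Nat.mul_mod, h1, h2]
  · obtain ⟨w, hw, hw2, hww, hwA, hinv, honly⟩ := Model.axis h ht hA htA M
    have hgA := cj_of_actsAs hi
    rcases honly gC hg1 hgA B hB htB (cj_of_actsAs hj) with e | e
    · exact absurd e.symm hne
    subst e
    have hgp : M.φ gC ∈ pows := (M.stab gC).mp hgA
    have hwi : (w : K)⁻¹ = w := inv_eq_of_mul_eq_one_left hww
    have hwg : (w : K) * g * (w : K)⁻¹ = g⁻¹ := by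
      have h1 : M.φ (w * gC * w⁻¹ * gC) = 1 := by rw [map_mul, hinv gC hgp, inv_mul_cancel]
      rcases (M.ker _).mp h1 with h2 | h2
      · exact eq_inv_of_mul_eq_one_left h2
      · exfalso
        have h3 : (w : K) * g * (w : K)⁻¹ = t * g⁻¹ := eq_mul_inv_of_mul_eq h2
        have h5 : M.φ (gC ^ 5) = 1 := by
          rw [map_pow]
          obtain ⟨n, hn⟩ := (isOfFinOrder_of_finite s0).mem_powers_iff_mem_zpowers.mpr
            (pows_iff.mp hgp)
          rw [show M.φ gC = s0 ^ n from hn.symm, ← pow_mul, mul_comm, pow_mul, s0_spec.2.1, one_pow]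
        have hg5 : g ^ 5 = 1 ∨ g ^ 5 = t := (M.ker _).mp h5
        have ht2 : t * t = 1 := by rw [← pow_two, ← ht, pow_orderOf_eq_one]
        have hti : t⁻¹ = t := inv_eq_of_mul_eq_one_left ht2
        have ht5 : t ^ 5 = t := pow_five_sq ht2
        have ht1 : t ≠ 1 := fun e1 => by rw [e1, orderOf_one] at ht; norm_num at ht
        have h4 := congrArg (fun k => k ^ 5) h3
        rw [conj_pow, ((show Commute g t from hg).symm.inv_right).mul_pow, inv_pow, ht5] at h4
        have hwt : (w : K) * t * (w : K)⁻¹ = t := by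
          rw [mem_centralizer_singleton_iff.mp w.2, mul_inv_cancel_right]
        rcases hg5 with e5 | e5
        · rw [e5, mul_one, mul_inv_cancel, inv_one, mul_one] at h4
          exact ht1 h4.symm
        · rw [e5, hwt, hti, ht2] at h4
          exact ht1 h4
    have hb : (w : K) * a * (w : K)⁻¹ ∈ cj (w : K) A := ⟨a, hamem, rfl⟩
    have h1 := hj _ hb
    rw [conj_pow] at h1
    have h2 : g⁻¹ * a * g = a ^ j := by
      apply (MulAut.conj (w : K)).injective
      simp only [MulAut.conj_apply]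
      rw [← h1]
      have h6 : (w : K) * g⁻¹ * (w : K)⁻¹ = g := by
        rw [show (w : K) * g⁻¹ * (w : K)⁻¹ = ((w : K) * g * (w : K)⁻¹)⁻¹ by group, hwg, inv_inv]
      calc (w : K) * (g⁻¹ * a * g) * (w : K)⁻¹
          = (w : K) * g⁻¹ * (w : K)⁻¹ * ((w : K) * a * (w : K)⁻¹) *
            ((w : K) * g⁻¹ * (w : K)⁻¹)⁻¹ := by group
        _ = g * ((w : K) * a * (w : K)⁻¹) * g⁻¹ := by rw [h6]
    have h3 : a ^ (i * j) = a ^ 1 := by
      rw [pow_mul, ← hi a hamem, conj_pow, ← h2, pow_one]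
      group
    simpa using hmod _ _ h3

theorem j_agree_count {t w : K} (ht : orderOf t = 2) (hw : orderOf w = 2) (hwt : w * t = t * w)
    (hne : w ≠ t) :
    Nat.card {q : Subgroup K × K // Nat.card q.1 = 11 ∧ cj t q.1 = q.1 ∧ orderOf q.2 = 2 ∧
      q.2 * t = t * q.2 ∧ q.2 ≠ t ∧ cj q.2 q.1 = cj w q.1} = 56 := by
  classical
  obtain ⟨⟨A, hA, htA⟩⟩ : Nonempty {A : Subgroup K // Nat.card A = 11 ∧ cj t A = A} :=
    (Nat.card_ne_zero.mp (by rw [j_fix_twelve h ht]; norm_num)).1
  obtain ⟨M⟩ := exists_model h ht hA htA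
  obtain ⟨hS10, htrans⟩ := j_orbit h ht hA htA
  set C := centralizer ({t} : Set K) with hC
  let wC : C := ⟨w, mem_centralizer_singleton_iff.mpr hwt⟩
  obtain ⟨hu2, hu1⟩ := (Model.lift_invol h ht M wC).mp ⟨hw, hne⟩
  let T := {q : Subgroup K × K // Nat.card q.1 = 11 ∧ cj t q.1 = q.1 ∧ orderOf q.2 = 2 ∧
      q.2 * t = t * q.2 ∧ q.2 ≠ t ∧ cj q.2 q.1 = cj w q.1}
  let X : Finset (P5 × P5) := (evens ×ˢ (evens.filter fun z => z * z = 1 ∧ z ≠ 1)).filter
      fun p => (M.φ wC * p.1)⁻¹ * (p.2 * p.1) ∈ pows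
  let P := {p : C × C // (M.φ p.1, M.φ p.2) ∈ X}
  have hP : ∀ p : C × C, (M.φ p.1, M.φ p.2) ∈ X ↔ orderOf (p.2 : K) = 2 ∧ (p.2 : K) ≠ t ∧
      cj (p.2 : K) (cj (p.1 : K) A) = cj w (cj (p.1 : K) A) := fun p => by
    simp only [X, Finset.mem_filter, Finset.mem_product, evens, Finset.mem_univ, true_and,
      M.even]
    rw [← and_assoc (a := orderOf (p.2 : K) = 2), Model.lift_invol h ht M p.2]
    refine and_congr_right fun _ => ?_
    rw [cj_cj, cj_cj, eq_comm, cj_eq_iff, ← map_mul, ← map_mul, ← map_inv, ← map_mul, ← M.stab]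
    simp [wC]
  have hfib : ∀ v : P5, Equiv.Perm.sign v = 1 → Nat.card {c : C // M.φ c = v} = 2 := by
    intro v hv
    obtain ⟨c0, hc0⟩ := M.surj v hv
    have ht1 : t ≠ 1 := fun e1 => by rw [e1, orderOf_one] at ht; norm_num at ht
    let tC : C := ⟨t, mem_centralizer_singleton_iff.mpr rfl⟩
    refine Nat.card_eq_two_iff.mpr ⟨⟨c0, hc0⟩, ⟨c0 * tC, ?_⟩, ?_, ?_⟩
    · rw [map_mul, (M.ker tC).mpr (Or.inr rfl), mul_one, hc0]
    · intro e1
      have e2 := congrArg (fun x : {c : C // M.φ c = v} => ((x : C) : K)) e1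
      simp only [coe_mul] at e2
      exact ht1 (left_eq_mul.mp e2)
    · refine Set.eq_univ_of_forall fun x => ?_
      have hk : M.φ (c0⁻¹ * x) = 1 := by rw [map_mul, map_inv, hc0, x.2, inv_mul_cancel]
      rcases (M.ker _).mp hk with e | e
      · exact Or.inl (Subtype.ext (inv_mul_eq_one.mp (show c0⁻¹ * x.1 = 1 from Subtype.ext e)).symm)
      · refine Or.inr (Subtype.ext ?_)
        show x.1 = c0 * tC
        rw [← show c0⁻¹ * x.1 = tC from Subtype.ext e, mul_inv_cancel_left]
  have h560 : Nat.card P = 4 * 140 := by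
    let e : P ≃ Σ m : X, {c : C // M.φ c = m.1.1} × {c : C // M.φ c = m.1.2} :=
      ⟨fun p => ⟨⟨_, p.2⟩, ⟨p.1.1, rfl⟩, ⟨p.1.2, rfl⟩⟩,
        fun s => ⟨(s.2.1.1, s.2.2.1), by rw [s.2.1.2, s.2.2.2]; exact s.1.2⟩,
        fun _ => rfl,
        fun ⟨⟨⟨a, b⟩, hm⟩, ⟨c, hc⟩, ⟨d, hd⟩⟩ => by
          simp only at hc hd
          subst hc hd
          rfl⟩
    rw [Nat.card_congr e, Nat.card_sigma, Finset.sum_congr rfl (g := fun _ => 4) fun m _ => ?_,
      Finset.sum_const, Finset.card_univ, Fintype.card_coe,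
      agree_model _ (M.even _) hu2 hu1]
    · rfl
    · have hm := m.2
      simp only [X, Finset.mem_filter, Finset.mem_product, evens, Finset.mem_univ, true_and] at hm
      rw [Nat.card_prod, hfib _ hm.1.1, hfib _ hm.1.2.1]
  have h10 : Nat.card P = 10 * Nat.card T := by
    let e : P ≃ Σ q : T, {c : C // cj (c : K) A = q.1.1} :=
      ⟨fun p => ⟨⟨(cj (p.1.1 : K) A, p.1.2), by
          obtain ⟨h1, h2, h3⟩ := (hP p.1).mp p.2
          exact ⟨by rw [card_cj, hA], commute_cj (mem_centralizer_singleton_iff.mp p.1.1.2) htA,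
            h1, mem_centralizer_singleton_iff.mp p.1.2.2, h2, h3⟩⟩, ⟨p.1.1, rfl⟩⟩,
        fun s => ⟨(s.2.1, ⟨s.1.1.2, mem_centralizer_singleton_iff.mpr s.1.2.2.2.2.1⟩), by
          obtain ⟨h1, h2, h3, h4, h5, h6⟩ := s.1.2
          refine (hP _).mpr ⟨h3, h5, ?_⟩
          simp only
          rw [s.2.2]; exact h6⟩,
        fun _ => rfl,
        fun ⟨⟨⟨B, z⟩, hq⟩, ⟨c, hc⟩⟩ => by
          simp only at hc
          subst hc
          rfl⟩
    have := Fintype.ofFinite T
    rw [Nat.card_congr e, Nat.card_sigma, Finset.sum_congr rfl (g := fun _ => 10) fun q _ => ?_,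
      Finset.sum_const, Finset.card_univ, ← Nat.card_eq_fintype_card, smul_eq_mul, mul_comm]
    obtain ⟨c0, hc0⟩ := htrans q.1.1 q.2.1 q.2.2.1
    refine (Nat.card_congr ((Equiv.mulLeft c0⁻¹).subtypeEquiv fun c => ?_)).trans hS10
    show cj (c : K) A = q.1.1 ↔ cj ((c0⁻¹ * c : C) : K) A = A
    rw [coe_mul, coe_inv, ← cj_eq_iff, hc0, eq_comm]
  show Nat.card T = 56
  omega

end Eleven
end H77
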