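import Cfsg.Agent.H77.Eleven.LPairs

/-!
Automorphisms of `L₂(11)` as conjugations by `2 × 2` matrices: those fixing a four-group have
order at most two. Every involution commutes with another one.
-/

set_option autoImplicit false
set_option maxRecDepth 100000

namespace H77
namespace Eleven

open H41

/-- scalar multiple -/
def qsc (k : ZMod 11) (x : Q11) : Q11 := ⟨k * x.a, k * x.b, k * x.c, k * x.d⟩

/-- conjugation by a matrix of non-zero determinant -/
def tw (M x : Q11) : Q11 := qsc (M.det ^ 9) (Q11.conj M x)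

/-- the square is scalar -/
def isSc (M : Q11) : Bool :=
  decide ((Q11.mul M M).b = 0) && decide ((Q11.mul M M).c = 0) &&
    decide ((Q11.mul M M).a = (Q11.mul M M).d)

/-- all triples -/
def triples : List (ZMod 11 × ZMod 11 × ZMod 11) :=
  (List.range 11).flatMap fun (a : ℕ) => (List.range 11).flatMap fun (b : ℕ) =>
    (List.range 11).map fun (c : ℕ) =>
    ((a : ZMod 11), (b : ZMod 11), (c : ZMod 11))

theorem mem_triples : ∀ a b c : ZMod 11, (a, b, c) ∈ triples := by
  intro a b c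
  simp only [triples, List.mem_flatMap, List.mem_map, List.mem_range]
  exact ⟨a.val, a.val_lt, b.val, b.val_lt, c.val, c.val_lt, by simp⟩

/-- the involutions, both signs -/
def invs : List Q11 :=
  (triples.map fun t => (⟨t.1, t.2.1, t.2.2, -t.1⟩ : Q11)).filter fun x => decide (x.det = 1)

theorem second_check : (invs.all fun w => invs.any fun s =>
    !(same s w) && same (Q11.mul s w) (Q11.mul w s) && !(same s Q11.one) &&
      same (qsq s) Q11.one) = true := by decide +kernel

theorem neg_one_nonsquare : ∀ a : ZMod 11, a * a ≠ -1 := by decide +kernel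

theorem two_ne : (2 : ZMod 11) ≠ 0 := by decide +kernel

variable [Fact (Nat.Prime 11)]

local notation "GL11" => Matrix.ProjectiveSpecialLinearGroup (Fin 2) (ZMod 11)
local notation "El" => Q11.el (RingEquiv.refl (ZMod 11))

theorem inv_det {M : Q11} (hM : M.det ≠ 0) : M.det * M.det ^ 9 = 1 := by
  rw [← pow_succ']
  exact ZMod.pow_card_sub_one_eq_one hM

theorem det_qsc (k : ZMod 11) (x : Q11) : (qsc k x).det = k ^ 2 * x.det := by
  simp only [qsc, Q11.det]; ring

theorem det_tw {M x : Q11} (hM : M.det ≠ 0) (hx : x.det = 1) : (tw M x).det = 1 := by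
  rw [tw, det_qsc, Q11.conj, Q11.det_mul, Q11.det_mul, Q11.det_adj, hx]
  linear_combination (M.det * M.det ^ 9 + 1) * inv_det hM

theorem tw_mul {M x y : Q11} (hM : M.det ≠ 0) :
    Q11.mul (tw M x) (tw M y) = tw M (Q11.mul x y) := by
  have h := inv_det hM
  simp only [Q11.det] at h
  simp only [tw, qsc, Q11.conj, Q11.mul, Q11.adj, Q11.det, Q11.mk.injEq]
  set k := (M.a * M.d - M.b * M.c) ^ 9
  refine ⟨?_, ?_, ?_, ?_⟩
  · linear_combination (k * ((M.a * x.a + M.b * x.c) * (y.a * M.d - y.b * M.c) +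
      (M.a * x.b + M.b * x.d) * (y.c * M.d - y.d * M.c))) * h
  · linear_combination (k * ((M.a * x.a + M.b * x.c) * (y.b * M.a - y.a * M.b) +
      (M.a * x.b + M.b * x.d) * (y.d * M.a - y.c * M.b))) * h
  · linear_combination (k * ((M.c * x.a + M.d * x.c) * (y.a * M.d - y.b * M.c) +
      (M.c * x.b + M.d * x.d) * (y.c * M.d - y.d * M.c))) * h
  · linear_combination (k * ((M.c * x.a + M.d * x.c) * (y.b * M.a - y.a * M.b) +
      (M.c * x.b + M.d * x.d) * (y.d * M.a - y.c * M.b))) * h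

theorem adj_tw (M x : Q11) : Q11.adj (tw M x) = tw M (Q11.adj x) := by
  simp only [tw, qsc, Q11.conj, Q11.mul, Q11.adj, Q11.det, Q11.mk.injEq]
  refine ⟨?_, ?_, ?_, ?_⟩ <;> ring

theorem tw_neg (M x : Q11) : tw M (Q11.neg x) = Q11.neg (tw M x) := by
  simp only [tw, qsc, Q11.conj, Q11.mul, Q11.adj, Q11.det, Q11.neg, Q11.mk.injEq]
  refine ⟨?_, ?_, ?_, ?_⟩ <;> ring

theorem el_tw_congr {M x y : Q11} (hM : M.det ≠ 0) (hx : x.det = 1) (hy : y.det = 1)
    (h : El x = El y) : El (tw M x) = El (tw M y) := by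
  rw [Q11.el_eq_iff _ hx hy] at h
  rw [Q11.el_eq_iff _ (det_tw hM hx) (det_tw hM hy)]
  rcases h with rfl | rfl
  · exact Or.inl rfl
  · exact Or.inr (tw_neg M x)

theorem tw_qsc {k : ZMod 11} (hk : k ≠ 0) (M x : Q11) : tw (qsc k M) x = tw M x := by
  have h10 : k ^ 10 = 1 := ZMod.pow_card_sub_one_eq_one hk
  have h20 : (k ^ 2) ^ 9 * k ^ 2 = 1 := by
    calc (k ^ 2) ^ 9 * k ^ 2 = (k ^ 10) ^ 2 := by ring
      _ = 1 := by rw [h10, one_pow]
  have e : Q11.conj (qsc k M) x = qsc (k ^ 2) (Q11.conj M x) := by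
    simp only [qsc, Q11.conj, Q11.mul, Q11.adj, Q11.mk.injEq]
    refine ⟨?_, ?_, ?_, ?_⟩ <;> ring
  rw [tw, tw, e, det_qsc, mul_pow]
  simp only [qsc, Q11.mk.injEq]
  refine ⟨?_, ?_, ?_, ?_⟩
  · linear_combination (M.det ^ 9 * (Q11.conj M x).a) * h20
  · linear_combination (M.det ^ 9 * (Q11.conj M x).b) * h20
  · linear_combination (M.det ^ 9 * (Q11.conj M x).c) * h20
  · linear_combination (M.det ^ 9 * (Q11.conj M x).d) * h20

theorem tw_sq {M x : Q11} (hM : M.det ≠ 0) (hs : isSc M = true) : tw M (tw M x) = x := by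
  simp only [isSc, Bool.and_eq_true, decide_eq_true_eq] at hs
  obtain ⟨⟨hb, hc⟩, hd⟩ := hs
  have e : Q11.mul M M = qsc (Q11.mul M M).a Q11.one := by
    simp only [qsc, Q11.one, mul_one, mul_zero]
    rw [← hb]
    conv_lhs => rw [show Q11.mul M M = ⟨(Q11.mul M M).a, (Q11.mul M M).b, (Q11.mul M M).c,
      (Q11.mul M M).d⟩ from rfl, ← hd, hc, ← hb]
  have e2 : tw M (tw M x) = tw (Q11.mul M M) x := by
    simp only [tw, qsc, Q11.conj, Q11.mul, Q11.adj, Q11.det, Q11.mk.injEq]
    refine ⟨?_, ?_, ?_, ?_⟩ <;> ring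
  have hk : (Q11.mul M M).a ≠ 0 := by
    intro h0
    have h := Q11.det_mul M M
    rw [e, h0, det_qsc] at h
    exact hM (mul_self_eq_zero.mp (by simpa using h.symm))
  rw [e2, e, tw_qsc hk]
  simp [tw, qsc, Q11.conj, Q11.mul, Q11.adj, Q11.det, Q11.one]

theorem exists_mat (α : MulAut GL11) : ∃ M : Q11, M.det ≠ 0 ∧
    ∀ x : Q11, x.det = 1 → α (El x) = El (tw M x) := by
  haveI : Finite GL11 := Nat.finite_of_card_ne_zero (by rw [card_psl]; norm_num)
  have hL : H63.Eleven.IsL2 GL11 := ⟨MulEquiv.refl _⟩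
  have h6 := six_of hL
  have hF := frame_psl
  have ha1 : ga ≠ 1 := by
    rw [ga, ← Q11.el_one (RingEquiv.refl (ZMod 11))]
    intro h
    exact absurd ((same_iff (det_qu 1) det_one).mpr h) (by decide +kernel)
  have hb1 : gb ≠ 1 := by
    rw [gb, ← Q11.el_one (RingEquiv.refl (ZMod 11))]
    intro h
    exact absurd ((same_iff (det_ql 1) det_one).mpr h) (by decide +kernel)
  have hca : Nat.card (Subgroup.zpowers ga) = 11 := by
    rw [Nat.card_zpowers, orderOf_eq_prime hF.oa ha1]
  have hcb : Nat.card (Subgroup.zpowers gb) = 11 := by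
    rw [Nat.card_zpowers, orderOf_eq_prime hF.ob hb1]
  have hab : Subgroup.zpowers ga ≠ Subgroup.zpowers gb := by
    intro e
    obtain ⟨n, hn, hn'⟩ := mem_pow hcb (Subgroup.mem_zpowers gb) hb1 (e ▸ Subgroup.mem_zpowers ga)
    rw [gb_pow, ga] at hn'
    have h1 := (same_iff (det_ql n) (det_qu 1)).mpr hn'
    have key : ((List.range 11).all fun n => !(same (ql n) (qu 1))) = true := by decide +kernel
    have := List.all_eq_true.mp key n (List.mem_range.mpr hn)
    rw [h1] at this
    exact Bool.noConfusion this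
  have hαa : Nat.card ((Subgroup.zpowers ga).map α.toMonoidHom) = 11 := by
    rw [Subgroup.card_map_of_injective (MulEquiv.injective _), hca]
  have hαb : Nat.card ((Subgroup.zpowers gb).map α.toMonoidHom) = 11 := by
    rw [Subgroup.card_map_of_injective (MulEquiv.injective _), hcb]
  obtain ⟨g0, hg0⟩ := h6.conjugate hαa hca
  have hne0 : H63.Eleven.cj g0 ((Subgroup.zpowers gb).map α.toMonoidHom) ≠ Subgroup.zpowers ga := by
    rw [← hg0]
    exact fun e => hab (Subgroup.map_injective (MulEquiv.injective α)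
      (Subgroup.map_injective (MulEquiv.injective _) e)).symm
  obtain ⟨c, hc, hcB⟩ := h6.move hca (B := H63.Eleven.cj g0 ((Subgroup.zpowers gb).map α.toMonoidHom))
    (by rw [Subgroup.card_map_of_injective (MulEquiv.injective _), hαb]) hcb hne0 hab.symm
  obtain ⟨i, hi', hi⟩ := mem_pow hca (Subgroup.mem_zpowers ga) ha1 (x := c * g0 * α ga * (c * g0)⁻¹) (by
    have hh : H63.Eleven.cj (c * g0) ((Subgroup.zpowers ga).map α.toMonoidHom) = Subgroup.zpowers ga := by
      rw [← H63.Eleven.cj_cj, hg0, mem_normalizer_iff_cj.mp (Subgroup.le_normalizer hc)]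
    exact hh.le ⟨α ga, Subgroup.mem_map_of_mem _ (Subgroup.mem_zpowers ga), rfl⟩)
  obtain ⟨j, hj', hj⟩ := mem_pow hcb (Subgroup.mem_zpowers gb) hb1 (x := c * g0 * α gb * (c * g0)⁻¹) (by
    rw [← hcB, H63.Eleven.cj_cj]
    exact ⟨α gb, Subgroup.mem_map_of_mem _ (Subgroup.mem_zpowers gb), rfl⟩)
  have hij : i * j % 11 = 1 := by
    have h1 := congrArg (fun k => c * g0 * α k * (c * g0)⁻¹)
      ((hF.invol 1 (by norm_num) 1 (by norm_num)).mpr (Or.inl rfl))
    simp only [pow_one, map_mul, map_one, mul_one, mul_inv_cancel] at h1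
    have h2 : (c * g0 * α ga * (c * g0)⁻¹) * (c * g0 * α gb * (c * g0)⁻¹) *
        ((c * g0 * α ga * (c * g0)⁻¹) * (c * g0 * α gb * (c * g0)⁻¹)) = 1 := by
      rw [← h1]; group
    rw [← hi, ← hj] at h2
    rcases (hF.invol i hi' j hj').mp h2 with h3 | ⟨rfl, -⟩
    · exact h3
    · rw [pow_zero] at hi
      exact absurd ((MulEquiv.map_eq_one_iff α).mp (conj_eq_one_iff.mp hi.symm)) ha1
  obtain ⟨q, hq, hqe⟩ := Q11.el_surjective (RingEquiv.refl (ZMod 11)) (c * g0)⁻¹
  have hi0 : (i : ZMod 11) ≠ 0 := by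
    intro h0
    rw [ZMod.natCast_eq_zero_iff] at h0
    have h2 : 11 ∣ i * j := dvd_mul_of_dvd_left h0 _
    omega
  refine ⟨Q11.mul q ⟨(i : ZMod 11), 0, 0, 1⟩, ?_, ?_⟩
  · rw [Q11.det_mul, hq]; simpa [Q11.det] using hi0
  set D : Q11 := ⟨(i : ZMod 11), 0, 0, 1⟩ with hD
  have hM : (Q11.mul q D).det ≠ 0 := by rw [Q11.det_mul, hq]; simpa [Q11.det, hD] using hi0
  intro x hx
  have hgen : (El x) ∈ Subgroup.closure ({ga, gb} : Set GL11) := by
    have := h6.gen hca hcb hab
    rw [Subgroup.zpowers_eq_closure, Subgroup.zpowers_eq_closure, ← Subgroup.closure_union,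
      Set.singleton_union] at this
    rw [this]; exact Subgroup.mem_top _
  have hconj : ∀ k, α k = (c * g0)⁻¹ * (c * g0 * α k * (c * g0)⁻¹) * (c * g0) := fun k => by group
  have hgen' : ∀ k ∈ Subgroup.closure ({ga, gb} : Set GL11),
      ∃ y : Q11, y.det = 1 ∧ El y = k ∧ α k = El (tw (Q11.mul q D) y) := by
    intro k hk
    induction hk using Subgroup.closure_induction with
    | mem k hk =>
      have hqi : (c * g0) = (El q)⁻¹ := by rw [hqe, inv_inv]
      have hDi : ((i : ZMod 11) * 1 - 0 * 0) * ((i : ZMod 11) * 1 - 0 * 0) ^ 9 = 1 :=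
        inv_det (M := D) (by simpa [Q11.det, hD] using hi0)
      simp only [mul_one, mul_zero, sub_zero] at hDi
      have hji : (i : ZMod 11) * (j : ZMod 11) = 1 := by
        rw [← Nat.cast_mul, ← ZMod.natCast_mod, hij, Nat.cast_one]
      rcases hk with rfl | hk
      · refine ⟨qu 1, det_qu 1, rfl, ?_⟩
        rw [hconj, ← hi, hqi, inv_inv, ga_pow, ← Q11.el_conj _ hq (det_qu i)]
        congr 1
        simp only [tw, qsc, Q11.conj, Q11.mul, Q11.adj, Q11.det, qu, hD, Q11.mk.injEq] at hq ⊢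
        refine ⟨?_, ?_, ?_, ?_⟩ <;> push_cast <;> rw [show (q.a * (i : ZMod 11) + q.b * 0) *
          (q.c * 0 + q.d * 1) - (q.a * 0 + q.b * 1) * (q.c * (i : ZMod 11) + q.d * 0) = (i : ZMod 11) by
            linear_combination (i : ZMod 11) * hq]
        · linear_combination (-(q.a * q.d - q.b * q.c) + q.a * q.c * (i : ZMod 11)) * hDi
        · linear_combination (-(q.a * q.a) * (i : ZMod 11)) * hDi
        · linear_combination (q.c * q.c * (i : ZMod 11)) * hDi
        · linear_combination (-(q.a * q.d - q.b * q.c) - q.a * q.c * (i : ZMod 11)) * hDi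
      · rw [Set.mem_singleton_iff] at hk
        subst hk
        refine ⟨ql 1, det_ql 1, rfl, ?_⟩
        rw [hconj, ← hj, hqi, inv_inv, gb_pow, ← Q11.el_conj _ hq (det_ql j)]
        congr 1
        simp only [tw, qsc, Q11.conj, Q11.mul, Q11.adj, Q11.det, ql, hD, Q11.mk.injEq] at hq ⊢
        refine ⟨?_, ?_, ?_, ?_⟩ <;> push_cast <;> rw [show (q.a * (i : ZMod 11) + q.b * 0) *
          (q.c * 0 + q.d * 1) - (q.a * 0 + q.b * 1) * (q.c * (i : ZMod 11) + q.d * 0) = (i : ZMod 11) by
            linear_combination (i : ZMod 11) * hq]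
        · linear_combination (-(q.a * q.d - q.b * q.c) + 2 * q.b * q.d * (j : ZMod 11)) * hDi +
            (-2 * q.b * q.d * (i : ZMod 11) ^ 9) * hji
        · linear_combination (-2 * q.b * q.b * (j : ZMod 11)) * hDi +
            (2 * q.b * q.b * (i : ZMod 11) ^ 9) * hji
        · linear_combination (2 * q.d * q.d * (j : ZMod 11)) * hDi +
            (-2 * q.d * q.d * (i : ZMod 11) ^ 9) * hji
        · linear_combination (-(q.a * q.d - q.b * q.c) - 2 * q.b * q.d * (j : ZMod 11)) * hDi +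
            (2 * q.b * q.d * (i : ZMod 11) ^ 9) * hji
    | one =>
      refine ⟨Q11.one, det_one, Q11.el_one _, ?_⟩
      rw [map_one]
      have h := inv_det hM
      have e : tw (Q11.mul q D) Q11.one = Q11.one := by
        simp only [tw, qsc, Q11.conj, Q11.adj, Q11.one, Q11.det] at h ⊢
        simp only [Q11.mul, Q11.mk.injEq] at h ⊢
        refine ⟨?_, ?_, ?_, ?_⟩
        · linear_combination h
        · ring
        · ring
        · linear_combination h
      rw [e, Q11.el_one]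
    | mul k l _ _ hk hl =>
      obtain ⟨y, hy, rfl, hy'⟩ := hk
      obtain ⟨z, hz, rfl, hz'⟩ := hl
      refine ⟨Q11.mul y z, det_mul_one hy hz, Q11.el_mul _ hy hz, ?_⟩
      rw [map_mul, hy', hz', ← Q11.el_mul _ (det_tw hM hy) (det_tw hM hz), tw_mul hM]
    | inv k _ hk =>
      obtain ⟨y, hy, rfl, hy'⟩ := hk
      refine ⟨Q11.adj y, by rw [Q11.det_adj, hy], Q11.el_adj _ hy, ?_⟩
      rw [map_inv, hy', ← Q11.el_adj _ (det_tw hM hy), adj_tw]
  obtain ⟨y, hy, hye, hy'⟩ := hgen' _ hgen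
  rw [hy']
  exact el_tw_congr hM hy hx hye

/-- an involution of the projective group has trace zero -/
theorem trace_zero {x : Q11} (hx : x.det = 1) (h2 : El x * El x = 1) (h1 : El x ≠ 1) :
    x.d = -x.a := by
  rw [← Q11.el_mul _ hx hx, ← Q11.el_one (RingEquiv.refl (ZMod 11)),
    Q11.el_eq_iff _ (det_mul_one hx hx) det_one] at h2
  rw [← Q11.el_one (RingEquiv.refl (ZMod 11)), Ne, Q11.el_eq_iff _ hx det_one] at h1
  obtain ⟨a, b, c, d⟩ := x
  simp only [Q11.det] at hx
  simp only [Q11.one, Q11.mul, Q11.neg, Q11.mk.injEq, neg_zero] at h1 h2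
  rw [eq_neg_iff_add_eq_zero]
  show d + a = 0
  by_contra hne
  have hb : b = 0 := by
    have h : b * (d + a) = 0 := by
      rcases h2 with ⟨-, e, -, -⟩ | ⟨-, e, -, -⟩
      · linear_combination -e
      · linear_combination e
    exact (mul_eq_zero.mp h).resolve_right hne
  have hc : c = 0 := by
    have h : c * (d + a) = 0 := by
      rcases h2 with ⟨-, -, e, -⟩ | ⟨-, -, e, -⟩
      · linear_combination -e
      · linear_combination e
    exact (mul_eq_zero.mp h).resolve_right hne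
  subst hb hc
  simp only [mul_zero, zero_mul, add_zero, zero_add, sub_zero] at h2 hx
  have ha : a = 1 ∨ a = -1 := by
    rcases h2 with ⟨e, -⟩ | ⟨e, -⟩
    · exact mul_self_eq_one_iff.mp e.symm
    · exact absurd (by linear_combination e) (neg_one_nonsquare a)
  rcases ha with rfl | rfl
  · exact h1 (Or.inl ⟨rfl, rfl, rfl, by simpa using hx.symm⟩)
  · exact h1 (Or.inr ⟨by rw [neg_neg], by simp, by simp, by linear_combination -hx⟩)

theorem mem_invs {x : Q11} (hx : x.det = 1) (h2 : El x * El x = 1) (h1 : El x ≠ 1) : x ∈ invs := by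
  have hd := trace_zero hx h2 h1
  refine List.mem_filter.mpr ⟨List.mem_map.mpr ⟨(x.a, x.b, x.c), mem_triples _ _ _, ?_⟩, ?_⟩
  · obtain ⟨a, b, c, d⟩ := x
    simp_all
  · simpa using hx

theorem tw_comm {M x : Q11} (hM : M.det ≠ 0) : Q11.mul (tw M x) M = Q11.mul M x := by
  have h := inv_det hM
  simp only [Q11.det] at h
  simp only [tw, qsc, Q11.conj, Q11.mul, Q11.adj, Q11.det, Q11.mk.injEq]
  refine ⟨?_, ?_, ?_, ?_⟩
  · linear_combination (M.a * x.a + M.b * x.c) * h
  · linear_combination (M.a * x.b + M.b * x.d) * h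
  · linear_combination (M.c * x.a + M.d * x.c) * h
  · linear_combination (M.c * x.b + M.d * x.d) * h

/-- a fixed involution anticommutes with a matrix of trace zero or commutes with it -/
theorem fixed_cases {M : Q11} (hM : M.det ≠ 0) {p q r : ZMod 11}
    (hd : -(p * p) - q * r = 1) (hfix : El (tw M ⟨p, q, r, -p⟩) = El (⟨p, q, r, -p⟩ : Q11)) :
    (q * M.c = r * M.b ∧ 2 * p * M.b = q * (M.a - M.d) ∧ 2 * p * M.c = r * (M.a - M.d)) ∨
      isSc M = true := by
  have hx : (⟨p, q, r, -p⟩ : Q11).det = 1 := by simp only [Q11.det]; linear_combination hd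
  rw [Q11.el_eq_iff _ (det_tw hM hx) hx] at hfix
  have hc := tw_comm (x := ⟨p, q, r, -p⟩) hM
  obtain ⟨A, B, C, D⟩ := M
  rcases hfix with e | e
  · rw [← e] at hc
    simp only [Q11.mul, Q11.mk.injEq] at hc
    obtain ⟨e1, e2, e3, e4⟩ := hc
    left
    exact ⟨by linear_combination e1, by linear_combination e2, by linear_combination -e3⟩
  · have e' : tw (⟨A, B, C, D⟩ : Q11) ⟨p, q, r, -p⟩ = Q11.neg ⟨p, q, r, -p⟩ := by
      conv_rhs => rw [e]
      generalize tw _ _ = t
      simp [Q11.neg]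
    rw [e'] at hc
    simp only [Q11.mul, Q11.neg, Q11.mk.injEq] at hc
    obtain ⟨e1, e2, e3, e4⟩ := hc
    right
    have hp : p * (A + D) = 0 :=
      mul_left_cancel₀ two_ne (by linear_combination -e1 + e4)
    have hq : q * (A + D) = 0 := by linear_combination -e2
    have hAD : A + D = 0 := by linear_combination -(A + D) * hd - p * hp - r * hq
    have i1 : A * B + B * D = 0 := by linear_combination B * hAD
    have i2 : C * A + D * C = 0 := by linear_combination C * hAD
    have i3 : A * A + B * C = C * B + D * D := by linear_combination (A - D) * hAD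
    simp [isSc, Q11.mul, i1, i2, i3]

theorem cent_four_psl {e f : GL11} (he : e * e = 1) (hf : f * f = 1) (he1 : e ≠ 1) (hf1 : f ≠ 1)
    (hef : e ≠ f) (α : MulAut GL11) (hαe : α e = e) (hαf : α f = f) :
    ∀ k, α (α k) = k := by
  obtain ⟨M, hM, hα⟩ := exists_mat α
  suffices hsc : isSc M = true by
    intro k
    obtain ⟨x, hx, rfl⟩ := Q11.el_surjective (RingEquiv.refl (ZMod 11)) k
    rw [hα x hx, hα _ (det_tw hM hx), tw_sq hM hsc]
  obtain ⟨x, hx, rfl⟩ := Q11.el_surjective (RingEquiv.refl (ZMod 11)) e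
  obtain ⟨y, hy, rfl⟩ := Q11.el_surjective (RingEquiv.refl (ZMod 11)) f
  rw [hα x hx] at hαe
  rw [hα y hy] at hαf
  have dx := trace_zero hx he he1
  have dy := trace_zero hy hf hf1
  obtain ⟨p, q, r, d⟩ := x
  obtain ⟨p', q', r', d'⟩ := y
  obtain rfl : d = -p := dx
  obtain rfl : d' = -p' := dy
  have hd : -(p * p) - q * r = 1 := by simp only [Q11.det] at hx; linear_combination hx
  have hd' : -(p' * p') - q' * r' = 1 := by simp only [Q11.det] at hy; linear_combination hy
  rcases fixed_cases hM hd hαe with ⟨u1, u2, u3⟩ | h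
  swap
  · exact h
  rcases fixed_cases hM hd' hαf with ⟨v1, v2, v3⟩ | h
  swap
  · exact h
  obtain ⟨A, B, C, D⟩ := M
  simp only at u1 u2 u3 v1 v2 v3
  by_cases h0 : B = 0 ∧ C = 0 ∧ A = D
  · obtain ⟨rfl, rfl, rfl⟩ := h0
    simp [isSc, Q11.mul]
  exfalso
  have hcross : q * r' = r * q' ∧ p * q' = p' * q ∧ p * r' = p' * r := by
    have h2 := two_ne
    by_cases hAD : A = D
    · subst hAD
      simp only [sub_self, mul_zero] at u2 u3 v2 v3
      have hBC : B ≠ 0 ∨ C ≠ 0 := by tauto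
      rcases hBC with hB | hC
      · obtain rfl : p = 0 := (mul_eq_zero.mp ((mul_eq_zero.mp u2).resolve_right hB)).resolve_left h2
        obtain rfl : p' = 0 := (mul_eq_zero.mp ((mul_eq_zero.mp v2).resolve_right hB)).resolve_left h2
        exact ⟨mul_left_cancel₀ hB (by linear_combination q' * u1 - q * v1), by simp, by simp⟩
      · obtain rfl : p = 0 := (mul_eq_zero.mp ((mul_eq_zero.mp u3).resolve_right hC)).resolve_left h2
        obtain rfl : p' = 0 := (mul_eq_zero.mp ((mul_eq_zero.mp v3).resolve_right hC)).resolve_left h2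
        exact ⟨mul_left_cancel₀ hC (by linear_combination r' * u1 - r * v1), by simp, by simp⟩
    · have hk : A - D ≠ 0 := sub_ne_zero.mpr hAD
      refine ⟨mul_left_cancel₀ hk ?_, mul_left_cancel₀ hk ?_, mul_left_cancel₀ hk ?_⟩
      · linear_combination -r' * u2 + q' * u3 - 2 * p * v1
      · linear_combination -p * v2 + p' * u2
      · linear_combination -p * v3 + p' * u3
  obtain ⟨hX, hY, hZ⟩ := hcross
  obtain ⟨s, hs⟩ : ∃ s, s = -(p * p' + r * q') := ⟨_, rfl⟩
  have sp : p' = s * p := by subst hs; linear_combination -p' * hd + r * hY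
  have sq : q' = s * q := by subst hs; linear_combination -q' * hd - p * hY
  have sr : r' = s * r := by subst hs; linear_combination -r' * hd - p * hZ - r * hX
  apply hef
  rw [Q11.el_eq_iff _ hx hy]
  have hss : s * s = 1 := by
    subst sp sq sr
    linear_combination -(s * s) * hd + hd'
  rcases mul_self_eq_one_iff.mp hss with rfl | rfl
  · left; subst sp sq sr; simp
  · right; subst sp sq sr; simp [Q11.neg]

theorem second_psl {w : GL11} (hw : w * w = 1) (hw1 : w ≠ 1) :
    ∃ s : GL11, s * s = 1 ∧ s ≠ 1 ∧ s ≠ w ∧ s * w = w * s := by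
  obtain ⟨x, hx, rfl⟩ := Q11.el_surjective (RingEquiv.refl (ZMod 11)) w
  have h := List.all_eq_true.mp second_check x (mem_invs hx hw hw1)
  simp only [List.any_eq_true, Bool.and_eq_true, Bool.not_eq_true'] at h
  obtain ⟨s, hs, ⟨⟨h1, h2⟩, h3⟩, h4⟩ := h
  have hd : s.det = 1 := by simpa using (List.mem_filter.mp hs).2
  refine ⟨El s, ?_, ?_, ?_, ?_⟩
  · rw [← Q11.el_mul _ hd hd, ← Q11.el_one (RingEquiv.refl (ZMod 11))]
    exact (same_iff (det_mul_one hd hd) det_one).mp h4
  · rw [← Q11.el_one (RingEquiv.refl (ZMod 11)), Ne, ← same_iff hd det_one, h3]; simp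
  · rw [Ne, ← same_iff hd hx, h1]; simp
  · rw [← Q11.el_mul _ hd hx, ← Q11.el_mul _ hx hd]
    exact (same_iff (det_mul_one hd hx) (det_mul_one hx hd)).mp h2

variable {K : Type*} [Group K]

theorem cent_four (h : H63.Eleven.IsL2 K) {e f : K} (he : e * e = 1) (hf : f * f = 1) (he1 : e ≠ 1)
    (hf1 : f ≠ 1) (hef : e ≠ f) (hc : e * f = f * e) (α : MulAut K) (hαe : α e = e) (hαf : α f = f) :
    ∀ k, α (α k) = k := by
  obtain ⟨φ⟩ := h
  intro k
  have hh := cent_four_psl (e := φ e) (f := φ f) (by rw [← map_mul, he, map_one])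
    (by rw [← map_mul, hf, map_one]) (fun e1 => he1 ((MulEquiv.map_eq_one_iff φ).mp e1))
    (fun e1 => hf1 ((MulEquiv.map_eq_one_iff φ).mp e1)) (fun e1 => hef (φ.injective e1))
    ((φ.symm.trans α).trans φ) (by simp [hαe]) (by simp [hαf]) (φ k)
  simpa using hh

theorem second_invol (h : H63.Eleven.IsL2 K) {w : K} (hw : w * w = 1) (hw1 : w ≠ 1) :
    ∃ s : K, s * s = 1 ∧ s ≠ 1 ∧ s ≠ w ∧ s * w = w * s := by
  obtain ⟨φ⟩ := h
  obtain ⟨s, h1, h2, h3, h4⟩ := second_psl (w := φ w) (by rw [← map_mul, hw, map_one])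
    (fun e1 => hw1 ((MulEquiv.map_eq_one_iff φ).mp e1))
  refine ⟨φ.symm s, by rw [← map_mul, h1, map_one], fun e => h2 ((MulEquiv.map_eq_one_iff _).mp e),
    fun e => h3 (by rw [← e, φ.apply_symm_apply]), φ.injective ?_⟩
  rw [map_mul, map_mul, φ.apply_symm_apply, h4]

end Eleven
end H77
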