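import Cfsg.Agent.H77.Eleven.LFacts

/-!
Automorphisms of `L₂(11)` fixing or exchanging two Sylow 11-subgroups.
-/

set_option autoImplicit false

namespace H77
namespace Eleven

open H63.Eleven Subgroup

universe u

variable {K : Type u} [Group K] [Finite K] (h : IsL2 K)
include h

theorem mult {A B : Subgroup K} (hA : Nat.card A = 11) (hB : Nat.card B = 11) (hne : A ≠ B)
    (α : MulAut K) {i j : ℕ} (hi : ∀ a ∈ A, α a = a ^ i) (hj : ∀ b ∈ B, α b = b ^ j) :
    i * j % 11 = 1 := by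
  obtain ⟨a, b, hF, ha, hb, ha1, hb1⟩ := frame_at h hA hB hne
  have h1 := (hF.invol 1 (by norm_num) 1 (by norm_num)).mpr (Or.inl rfl)
  have h2 := congrArg α h1
  simp only [map_mul, map_one, pow_one, hi a ha, hj b hb] at h2
  rw [pow_eq_pow_mod i hF.oa, pow_eq_pow_mod j hF.ob] at h2
  rcases (hF.invol _ (Nat.mod_lt _ (by norm_num)) _ (Nat.mod_lt _ (by norm_num))).mp h2 with h3 | ⟨h3, -⟩
  · rwa [← Nat.mul_mod] at h3
  · exfalso
    apply ha1
    have := hi a ha
    rw [pow_eq_pow_mod i hF.oa, h3, pow_zero] at this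
    exact (MulEquiv.map_eq_one_iff α).mp this

theorem swap {A B : Subgroup K} (hA : Nat.card A = 11) (hB : Nat.card B = 11) (hne : A ≠ B) :
    ∃ w : K, w * w = 1 ∧ cj w A = B ∧ cj w B = A ∧
      (∀ y : K, cj y A = A → cj y B = B → w * y * w⁻¹ = y⁻¹) ∧
      ∀ α : MulAut K, (∀ a ∈ A, α a = a⁻¹) → (∀ b ∈ B, α b = b⁻¹) → α w = w := by
  obtain ⟨a, b, hF, ha, hb, ha1, hb1⟩ := frame_at h hA hB hne
  set w := a * b ^ 6 * a with hw
  have hww : w * w = 1 := hF.swap_sq
  have hwi : w⁻¹ = w := inv_eq_of_mul_eq_one_left hww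
  have hpow : ∀ {x : K}, orderOf x = 11 → ∀ k, k % 11 ≠ 0 → x ^ k ≠ 1 := by
    intro x hx k hk e
    exact hk (Nat.mod_eq_zero_of_dvd (hx ▸ orderOf_dvd_of_pow_eq_one e))
  have hAB : cj w A = B := by
    rw [← eq_zpowers_of_mem hA ha ha1, cj_zpowers, hF.swap_a]
    exact eq_zpowers_of_mem hB (B.pow_mem hb 6) (hpow (orderOf_eleven hB hb hb1) 6 (by norm_num))
  have hBA : cj w B = A := by
    rw [← eq_zpowers_of_mem hB hb hb1, cj_zpowers, hF.swap_b]
    exact eq_zpowers_of_mem hA (A.pow_mem ha 2) (hpow (orderOf_eleven hA ha ha1) 2 (by norm_num))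
  refine ⟨w, hww, hAB, hBA, ?_, ?_⟩
  · intro y hyA hyB
    obtain ⟨i, -, hi⟩ := mem_pow hA ha ha1
      (x := y * a * y⁻¹) ((mem_normalizer_iff.mp (mem_normalizer_iff_cj.mpr hyA) a).mp ha)
    obtain ⟨j, -, hj⟩ := mem_pow hB hb hb1
      (x := y * b * y⁻¹) ((mem_normalizer_iff.mp (mem_normalizer_iff_cj.mpr hyB) b).mp hb)
    have hij : i * j % 11 = 1 := by
      refine mult h hA hB hne (MulAut.conj y) (fun x hx => ?_) (fun x hx => ?_)
      · obtain ⟨k, -, rfl⟩ := mem_pow hA ha ha1 hx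
        rw [map_pow, MulAut.conj_apply, ← hi, ← pow_mul, ← pow_mul, mul_comm]
      · obtain ⟨k, -, rfl⟩ := mem_pow hB hb hb1 hx
        rw [map_pow, MulAut.conj_apply, ← hj, ← pow_mul, ← pow_mul, mul_comm]
    have hz : (w * y * w * y) * a * (w * y * w * y)⁻¹ = a := by
      have e1 : (w * y * w * y) * a * (w * y * w * y)⁻¹ =
          w * (y * (w * (y * a * y⁻¹) * w⁻¹) * y⁻¹) * w⁻¹ := by group
      have c1 : w * a ^ i * w⁻¹ = b ^ (6 * i) := by rw [← conj_pow, hF.swap_a, ← pow_mul]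
      have c2 : y * b ^ (6 * i) * y⁻¹ = b ^ (j * (6 * i)) := by rw [← conj_pow, ← hj, ← pow_mul]
      have c3 : w * b ^ (j * (6 * i)) * w⁻¹ = a ^ (2 * (j * (6 * i))) := by
        rw [← conj_pow, hF.swap_b, ← pow_mul]
      rw [e1, ← hi, c1, c2, c3, pow_eq_pow_mod _ hF.oa]
      conv_rhs => rw [← pow_one a]
      congr 1
      rw [show 2 * (j * (6 * i)) = 12 * (i * j) by ring, Nat.mul_mod, hij]
    have hzA : w * y * w * y ∈ A := by
      rw [← (six_of h).centralizer_eq hA, mem_centralizer_iff]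
      intro m hm
      obtain ⟨k, -, rfl⟩ := mem_pow hA ha ha1 hm
      exact ((show Commute (w * y * w * y) a from mul_inv_eq_iff_eq_mul.mp hz).pow_right k).eq.symm
    have hzD : w * y * w * y ∈ normalizer (A : Set K) ⊓ normalizer (B : Set K) := by
      refine ⟨mem_normalizer_iff_cj.mpr ?_, mem_normalizer_iff_cj.mpr ?_⟩
      · simp only [← cj_cj, hyA, hAB, hyB, hBA]
      · simp only [← cj_cj, hyA, hAB, hyB, hBA]
    have hz1 : w * y * w * y = 1 := by
      by_contra h1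
      have := orderOf_dvd_natCard (⟨_, hzD⟩ : ↥(normalizer (A : Set K) ⊓ normalizer (B : Set K)))
      rw [(six_of h).pair_card hA hB hne, ← Subgroup.orderOf_coe, orderOf_eleven hA hzA h1] at this
      norm_num at this
    rw [hwi]
    exact eq_inv_of_mul_eq_one_left hz1
  · intro α hαA hαB
    conv_rhs => rw [← hwi]
    rw [hw, map_mul, map_mul, map_pow, hαA a ha, hαB b hb, inv_pow]
    group

theorem outer_swap {A B : Subgroup K} (hA : Nat.card A = 11) (hB : Nat.card B = 11) (hne : A ≠ B)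
    (α : MulAut K) (hα : ∀ k, α (α k) = k) (hAB : A.map α.toMonoidHom = B) :
    (∃ C : Subgroup K, Nat.card C = 11 ∧ C.map α.toMonoidHom = C) ∨
      ∃ g : K, ∀ k, α k = g * k * g⁻¹ := by
  obtain ⟨a, b, hF, ha, hb, ha1, hb1⟩ := frame_at h hA hB hne
  obtain ⟨c, hc, hαa⟩ := mem_pow hB hb hb1 (x := α a) (hAB ▸ mem_map_of_mem _ ha)
  have hc0 : 0 < c := by
    rcases Nat.eq_zero_or_pos c with rfl | h0
    · rw [pow_zero] at hαa
      exact absurd ((MulEquiv.map_eq_one_iff α).mp hαa.symm) ha1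
    · exact h0
  rcases hF.outer c hc hc0 with ⟨g, d, hd, hcd, hga, hgb⟩ | ⟨i, hi, e, he, he0, heq⟩
  · right
    refine ⟨g, fun k => ?_⟩
    have hb' : b = (b ^ c) ^ d := by
      rw [← pow_mul, pow_eq_pow_mod _ hF.ob, hcd, pow_one]
    have hαb : α b = a ^ d := by
      conv_lhs => rw [hb', hαa, map_pow, hα]
    have hsub : (A ⊔ B : Subgroup K) ≤
        MonoidHom.eqLocus α.toMonoidHom (MulAut.conj g).toMonoidHom := by
      refine sup_le ?_ ?_
      · rw [← eq_zpowers_of_mem hA ha ha1, zpowers_le]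
        show α a = g * a * g⁻¹
        rw [hga, hαa]
      · rw [← eq_zpowers_of_mem hB hb hb1, zpowers_le]
        show α b = g * b * g⁻¹
        rw [hgb, hαb]
    rw [(six_of h).gen hA hB hne] at hsub
    exact hsub (mem_top k)
  · left
    have hC : Nat.card (cj (a ^ i) B) = 11 := by
      rw [card_map_of_injective (MulEquiv.injective _), hB]
    refine ⟨cj (a ^ i) B, hC, ?_⟩
    have hx : a ^ i * b ^ e * (a ^ i)⁻¹ ∈ cj (a ^ i) B :=
      ⟨b ^ e, B.pow_mem hb e, rfl⟩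
    have hx1 : a ^ i * b ^ e * (a ^ i)⁻¹ ≠ 1 := by
      intro e1
      rw [conj_eq_one_iff] at e1
      have := orderOf_dvd_of_pow_eq_one e1
      rw [orderOf_eleven hB hb hb1] at this
      exact absurd (Nat.le_of_dvd he0 this) (by omega)
    have hC' : Nat.card ((cj (a ^ i) B).map α.toMonoidHom) = 11 := by
      rw [card_map_of_injective (MulEquiv.injective _), hC]
    rw [← eq_zpowers_of_mem hC hx hx1]
    conv_rhs => rw [eq_zpowers_of_mem hC hx hx1]
    conv_lhs => rw [eq_zpowers_of_mem hC hx hx1]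
    refine (eq_zpowers_of_mem hC' ?_ hx1).symm.trans (eq_zpowers_of_mem hC hx hx1)
    -- the image of the conjugate of `α a` is the element
    refine ⟨a ^ i * α a * (a ^ i)⁻¹, ⟨α a, hAB ▸ mem_map_of_mem _ ha, rfl⟩, ?_⟩
    show α (a ^ i * α a * (a ^ i)⁻¹) = _
    rw [map_mul, map_mul, map_inv, map_pow, hα, ← hαa, ← pow_mul, heq]

theorem order_four {A B : Subgroup K} (hA : Nat.card A = 11) (hB : Nat.card B = 11) (hne : A ≠ B)
    (α : MulAut K) (hi : ∀ a ∈ A, α a = a⁻¹) (hj : ∀ b ∈ B, α b = b⁻¹) :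
    ∃ g : K, α g * g ≠ 1 ∧ (α g * g) * (α g * g) = 1 := by
  obtain ⟨a, b, hF, ha, hb, ha1, hb1⟩ := frame_at h hA hB hne
  obtain ⟨i, -, j, -, h1, h2⟩ := hF.four
  refine ⟨a ^ i * b ^ j, ?_⟩
  rw [map_mul, hi _ (A.pow_mem ha i), hj _ (B.pow_mem hb j)]
  exact ⟨h1, h2⟩

end Eleven
end H77
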