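import Cfsg.Agent.H41.PSL11
import Cfsg.Agent.H37.SmallIso

/-!
Two generators of order eleven of `L₂(11)` with the relations used for the facts about pairs of
Sylow 11-subgroups.
-/

set_option autoImplicit false

namespace H77
namespace Eleven

open H41

variable {K : Type*} [Group K]

/-- Two elements with the relations of the standard pair of unipotent elements. -/
structure Frame (a b : K) : Prop where
  oa : a ^ 11 = 1
  ob : b ^ 11 = 1
  invol : ∀ m < 11, ∀ n < 11, (a ^ m * b ^ n * (a ^ m * b ^ n) = 1 ↔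
    (m * n % 11 = 1 ∨ (m = 0 ∧ n = 0)))
  swap_sq : (a * b ^ 6 * a) * (a * b ^ 6 * a) = 1
  swap_a : (a * b ^ 6 * a) * a * (a * b ^ 6 * a)⁻¹ = b ^ 6
  swap_b : (a * b ^ 6 * a) * b * (a * b ^ 6 * a)⁻¹ = a ^ 2
  outer : ∀ c < 11, 0 < c →
    (∃ g : K, ∃ d < 11, c * d % 11 = 1 ∧ g * a * g⁻¹ = b ^ c ∧ g * b * g⁻¹ = a ^ d) ∨
    ∃ i < 11, ∃ e < 11, 0 < e ∧ b ^ (c * i) * a * (b ^ (c * i))⁻¹ = a ^ i * b ^ e * (a ^ i)⁻¹
  four : ∃ i < 11, ∃ j < 11, (a ^ i)⁻¹ * (b ^ j)⁻¹ * (a ^ i * b ^ j) ≠ 1 ∧
    (a ^ i)⁻¹ * (b ^ j)⁻¹ * (a ^ i * b ^ j) * ((a ^ i)⁻¹ * (b ^ j)⁻¹ * (a ^ i * b ^ j)) = 1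

theorem Frame.map {L : Type*} [Group L] (f : K →* L) (hf : Function.Injective f) {a b : K}
    (h : Frame a b) : Frame (f a) (f b) := by
  obtain ⟨i, hi, j, hj, h1, h2⟩ := h.four
  refine ⟨?_, ?_, ?_, ?_, ?_, ?_, ?_, ?_⟩
  · rw [← map_pow, h.oa, map_one]
  · rw [← map_pow, h.ob, map_one]
  · intro m hm n hn
    simp only [← map_pow, ← map_mul, ← map_one f, hf.eq_iff]
    exact h.invol m hm n hn
  · simp only [← map_pow, ← map_mul, h.swap_sq, map_one]
  · simp only [← map_pow, ← map_mul, ← map_inv, h.swap_a]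
  · simp only [← map_pow, ← map_mul, ← map_inv, h.swap_b]
  · intro c hc hc0
    rcases h.outer c hc hc0 with ⟨g, d, hd, e1, e2, e3⟩ | ⟨i, hi, e, he, he0, e1⟩
    · exact Or.inl ⟨f g, d, hd, e1, by simp only [← map_pow, ← map_mul, ← map_inv, e2],
        by simp only [← map_pow, ← map_mul, ← map_inv, e3]⟩
    · exact Or.inr ⟨i, hi, e, he, he0, by simp only [← map_pow, ← map_mul, ← map_inv, e1]⟩
  · refine ⟨i, hi, j, hj, ?_, ?_⟩
    · simp only [← map_pow, ← map_mul, ← map_inv]
      exact fun hh => h1 (hf (hh.trans (map_one f).symm))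
    · simp only [← map_pow, ← map_mul, ← map_inv, h2, map_one]

/-- the upper unipotent matrix -/
def qu (m : ℕ) : Q11 := ⟨1, (m : ZMod 11), 0, 1⟩

/-- the lower unipotent matrix -/
def ql (n : ℕ) : Q11 := ⟨1, 0, -2 * (n : ZMod 11), 1⟩

/-- equality up to sign -/
def same (x y : Q11) : Bool := decide (y = x) || decide (y = Q11.neg x)

local notation "GL11" => Matrix.ProjectiveSpecialLinearGroup (Fin 2) (ZMod 11)

/-- words in the two generators and their inverses -/
def qsq (x : Q11) : Q11 := Q11.mul x x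

def qw : Q11 := Q11.mul (Q11.mul (qu 1) (ql 6)) (qu 1)

def qg (t : ZMod 11) : Q11 := ⟨0, t, -(t ^ 9), 0⟩

def qx (i j : ℕ) : Q11 :=
  Q11.mul (Q11.mul (Q11.adj (qu i)) (Q11.adj (ql j))) (Q11.mul (qu i) (ql j))

theorem invol_check : ((List.range 11).all fun m => (List.range 11).all fun n =>
    (same (qsq (Q11.mul (qu m) (ql n))) Q11.one) ==
      (decide (m * n % 11 = 1) || (decide (m = 0) && decide (n = 0)))) = true := by decide +kernel

theorem swap_check : same (qsq qw) Q11.one = true ∧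
    same (Q11.conj qw (qu 1)) (ql 6) = true ∧ same (Q11.conj qw (ql 1)) (qu 2) = true := by
  decide +kernel

theorem outer_check : ((List.range 11).all fun c => decide (c = 0) ||
    ((List.range 11).any fun t => (List.range 11).any fun d => decide (0 < t) &&
      decide (c * d % 11 = 1) && same (Q11.conj (qg t) (qu 1)) (ql c) &&
      same (Q11.conj (qg t) (ql 1)) (qu d)) ||
    ((List.range 11).any fun i => (List.range 11).any fun e => decide (0 < e) &&
      same (Q11.conj (ql (c * i)) (qu 1)) (Q11.conj (qu i) (ql e)))) = true := by decide +kernel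

theorem qg_det : ((List.range 11).all fun t => decide (t = 0) ||
    decide ((qg (t : ℕ)).det = 1)) = true := by decide +kernel

theorem four_check : ((List.range 11).any fun i => (List.range 11).any fun j =>
    !(same (qx i j) Q11.one) && same (qsq (qx i j)) Q11.one) = true := by decide +kernel

local notation "El" => Q11.el (RingEquiv.refl (ZMod 11))

variable [Fact (Nat.Prime 11)]

/-- the first generator -/
noncomputable def ga : GL11 := El (qu 1)

/-- the second generator -/
noncomputable def gb : GL11 := El (ql 1)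

theorem det_qu (m : ℕ) : (qu m).det = 1 := by simp [qu, Q11.det]

theorem det_ql (m : ℕ) : (ql m).det = 1 := by simp [ql, Q11.det]

theorem ga_pow : ∀ m : ℕ, ga ^ m = El (qu m)
  | 0 => by
    rw [pow_zero, show qu 0 = Q11.one by simp [qu, Q11.one], Q11.el_one]
  | m + 1 => by
    rw [pow_succ, ga_pow m, ga, ← Q11.el_mul _ (det_qu _) (det_qu _)]
    congr 1
    simp [qu, Q11.mul, add_comm]

theorem gb_pow : ∀ m : ℕ, gb ^ m = El (ql m)
  | 0 => by
    rw [pow_zero, show ql 0 = Q11.one by simp [ql, Q11.one], Q11.el_one]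
  | m + 1 => by
    rw [pow_succ, gb_pow m, gb, ← Q11.el_mul _ (det_ql _) (det_ql _)]
    congr 1
    simp [ql, Q11.mul, mul_add, neg_add_rev, add_comm]

theorem det_one : Q11.one.det = 1 := by simp [Q11.one, Q11.det]

theorem same_iff {x y : Q11} (hx : x.det = 1) (hy : y.det = 1) :
    same x y = true ↔ El x = El y := by
  rw [Q11.el_eq_iff _ hx hy]
  simp [same]

theorem det_mul_one {x y : Q11} (hx : x.det = 1) (hy : y.det = 1) : (Q11.mul x y).det = 1 := by
  rw [Q11.det_mul, hx, hy, one_mul]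

theorem det_conj_one {g x : Q11} (hg : g.det = 1) (hx : x.det = 1) : (Q11.conj g x).det = 1 :=
  det_mul_one (det_mul_one hg hx) (by rw [Q11.det_adj, hg])

theorem det_qx (i j : ℕ) : (qx i j).det = 1 :=
  det_mul_one (det_mul_one (by rw [Q11.det_adj, det_qu]) (by rw [Q11.det_adj, det_ql]))
    (det_mul_one (det_qu _) (det_ql _))

theorem el_qx (i j : ℕ) : El (qx i j) = (ga ^ i)⁻¹ * (gb ^ j)⁻¹ * (ga ^ i * gb ^ j) := by
  rw [qx, Q11.el_mul _ (det_mul_one (by rw [Q11.det_adj, det_qu]) (by rw [Q11.det_adj, det_ql]))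
    (det_mul_one (det_qu _) (det_ql _)),
    Q11.el_mul _ (by rw [Q11.det_adj, det_qu]) (by rw [Q11.det_adj, det_ql]),
    Q11.el_mul _ (det_qu _) (det_ql _), Q11.el_adj _ (det_qu _), Q11.el_adj _ (det_ql _),
    ga_pow, gb_pow]

theorem det_qw : qw.det = 1 := det_mul_one (det_mul_one (det_qu _) (det_ql _)) (det_qu _)

theorem el_qw : El qw = ga * gb ^ 6 * ga := by
  rw [qw, Q11.el_mul _ (det_mul_one (det_qu _) (det_ql _)) (det_qu _),
    Q11.el_mul _ (det_qu _) (det_ql _), gb_pow]
  rfl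

theorem frame_psl : Frame ga gb := by
  refine ⟨?_, ?_, ?_, ?_, ?_, ?_, ?_, ?_⟩
  · rw [ga_pow, show qu 11 = Q11.one from by decide +kernel, Q11.el_one]
  · rw [gb_pow, show ql 11 = Q11.one from by decide +kernel, Q11.el_one]
  · intro m hm n hn
    have := List.all_eq_true.mp (List.all_eq_true.mp invol_check m (List.mem_range.mpr hm)) n
      (List.mem_range.mpr hn)
    rw [beq_iff_eq] at this
    rw [ga_pow, gb_pow, ← Q11.el_mul _ (det_qu _) (det_ql _),
      ← Q11.el_mul _ (det_mul_one (det_qu _) (det_ql _)) (det_mul_one (det_qu _) (det_ql _)),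
      ← Q11.el_one (RingEquiv.refl (ZMod 11)),
      ← same_iff (det_mul_one (det_mul_one (det_qu _) (det_ql _)) (det_mul_one (det_qu _) (det_ql _)))
        det_one]
    show same (qsq (Q11.mul (qu m) (ql n))) Q11.one = true ↔ _
    rw [this]
    simp
  · rw [← el_qw, ← Q11.el_mul _ det_qw det_qw, ← Q11.el_one (RingEquiv.refl (ZMod 11))]
    exact (same_iff (det_mul_one det_qw det_qw) det_one).mp swap_check.1
  · rw [← el_qw, gb_pow, show ga = El (qu 1) from rfl, ← Q11.el_conj _ det_qw (det_qu _)]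
    exact (same_iff (det_conj_one det_qw (det_qu _)) (det_ql _)).mp swap_check.2.1
  · rw [← el_qw, ga_pow, show gb = El (ql 1) from rfl, ← Q11.el_conj _ det_qw (det_ql _)]
    exact (same_iff (det_conj_one det_qw (det_ql _)) (det_qu _)).mp swap_check.2.2
  · intro c hc hc0
    have := List.all_eq_true.mp outer_check c (List.mem_range.mpr hc)
    simp only [Bool.or_eq_true, List.any_eq_true, List.mem_range, Bool.and_eq_true,
      decide_eq_true_eq] at this
    rcases this with (h | ⟨t, ht, d, hd, ⟨⟨ht0, hcd⟩, h1⟩, h2⟩) | ⟨i, hi, e, he, he0, h1⟩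
    · omega
    · have hg : (qg (t : ℕ)).det = 1 := by
        have := List.all_eq_true.mp qg_det t (List.mem_range.mpr ht)
        simpa [Nat.pos_iff_ne_zero.mp ht0] using this
      refine Or.inl ⟨El (qg (t : ℕ)), d, hd, hcd, ?_, ?_⟩
      · rw [gb_pow, show ga = El (qu 1) from rfl, ← Q11.el_conj _ hg (det_qu _)]
        exact (same_iff (det_conj_one hg (det_qu _)) (det_ql _)).mp h1
      · rw [ga_pow, show gb = El (ql 1) from rfl, ← Q11.el_conj _ hg (det_ql _)]
        exact (same_iff (det_conj_one hg (det_ql _)) (det_qu _)).mp h2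
    · refine Or.inr ⟨i, hi, e, he, he0, ?_⟩
      rw [gb_pow, ga_pow, gb_pow, show ga = El (qu 1) from rfl, ← Q11.el_conj _ (det_ql _) (det_qu _),
        ← Q11.el_conj _ (det_qu _) (det_ql _)]
      exact (same_iff (det_conj_one (det_ql _) (det_qu _)) (det_conj_one (det_qu _) (det_ql _))).mp h1
  · have := four_check
    simp only [List.any_eq_true, List.mem_range, Bool.and_eq_true, Bool.not_eq_true'] at this
    obtain ⟨i, hi, j, hj, h1, h2⟩ := this
    refine ⟨i, hi, j, hj, ?_, ?_⟩
    · rw [← el_qx]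
      intro h
      rw [(same_iff (det_qx i j) det_one).mpr (h.trans (Q11.el_one _).symm)] at h1
      exact Bool.noConfusion h1
    · rw [← el_qx, ← Q11.el_mul _ (det_qx i j) (det_qx i j), ← Q11.el_one (RingEquiv.refl (ZMod 11))]
      exact (same_iff (det_mul_one (det_qx i j) (det_qx i j)) det_one).mp h2

theorem card_psl : Nat.card GL11 = 660 := by
  have h := H37.card_PSL_two (F := ZMod 11)
  simp only [Nat.card_eq_fintype_card (α := ZMod 11), ZMod.card] at h
  have e : Nat.gcd 2 (11 - 1) = 2 := by decide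
  rw [e] at h
  omega

theorem simple_psl : IsSimpleGroup GL11 :=
  Matrix.ProjectiveSpecialLinearGroup.rank_two_simple (by simp)

end Eleven
end H77
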