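import Cfsg.Agent.H63.Eleven.Defs
import Cfsg.Agent.H77.Eleven.Frame

/-!
Facts about a group isomorphic to `L₂(11)`: Sylow 11-subgroups, their pairs, and automorphisms
moving them.
-/

set_option autoImplicit false

namespace H77
namespace Eleven

open H63.Eleven Subgroup

universe u

variable {K : Type u} [Group K]

theorem card_l2 (h : IsL2 K) : Nat.card K = 660 := by
  obtain ⟨e⟩ := h
  rw [Nat.card_congr e.toEquiv]; exact card_psl

theorem simple_l2 (h : IsL2 K) : IsSimpleGroup K := by
  obtain ⟨e⟩ := h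
  have := simple_psl
  exact e.isSimpleGroup

theorem finite_l2 (h : IsL2 K) : Finite K :=
  Nat.finite_of_card_ne_zero (by rw [card_l2 h]; norm_num)

theorem exists_frame (h : IsL2 K) : ∃ a b : K, Frame a b ∧ a ≠ 1 := by
  obtain ⟨e⟩ := h
  refine ⟨e.symm ga, e.symm gb, frame_psl.map e.symm.toMonoidHom e.symm.injective, ?_⟩
  intro h1
  have h1' : (ga : L11) = 1 := by
    have := congrArg e h1
    simpa using this
  have h2 := frame_psl.invol 0 (by norm_num) 1 (by norm_num)
  have h3 := frame_psl.swap_a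
  rw [h1', one_mul, mul_one, mul_one, mul_inv_cancel] at h3
  simp only [pow_zero, one_mul, pow_one] at h2
  have hb : (gb : L11) ^ 6 = 1 := h3.symm
  have hb' : (gb : L11) = 1 := by
    have := frame_psl.ob
    calc (gb : L11) = (gb ^ 6) ^ 2 * ((gb : L11) ^ 11)⁻¹ := by rw [← pow_mul]; group
      _ = 1 := by rw [hb, this, one_pow, inv_one, mul_one]
  rw [hb', one_mul] at h2
  simpa using h2.mp rfl

theorem conj_pow' (g a : K) (n : ℕ) : g * a ^ n * g⁻¹ = (g * a * g⁻¹) ^ n :=
  (conj_pow).symm

theorem cj_zpowers (g a : K) : cj g (zpowers a) = zpowers (g * a * g⁻¹) := by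
  simp [cj, MonoidHom.map_zpowers]

theorem mem_normalizer_iff_cj {g : K} {A : Subgroup K} :
    g ∈ normalizer (A : Set K) ↔ cj g A = A := by
  rw [mem_normalizer_iff]
  constructor
  · intro h
    ext x
    rw [mem_cj, h (g⁻¹ * x * g)]
    simp [mul_assoc]
  · intro h x
    conv_rhs => rw [← h, mem_cj]
    simp [mul_assoc]

theorem eq_zpowers_of_mem {A : Subgroup K} (hA : Nat.card A = 11) {a : K} (ha : a ∈ A) (ha1 : a ≠ 1) :
    zpowers a = A := by
  haveI : Finite A := Nat.finite_of_card_ne_zero (by omega)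
  refine eq_of_le_of_card_ge (zpowers_le.mpr ha) ?_
  rw [Nat.card_zpowers, hA]
  have h1 : orderOf (⟨a, ha⟩ : A) ∣ 11 := hA ▸ orderOf_dvd_natCard _
  rw [← Subgroup.orderOf_coe] at h1
  rcases (Nat.dvd_prime (by norm_num)).mp h1 with h2 | h2
  · exact absurd (orderOf_eq_one_iff.mp h2) ha1
  · exact h2.ge

theorem orderOf_eleven {A : Subgroup K} (hA : Nat.card A = 11) {a : K} (ha : a ∈ A) (ha1 : a ≠ 1) :
    orderOf a = 11 := by
  rw [← Nat.card_zpowers, eq_zpowers_of_mem hA ha ha1, hA]

theorem mem_pow {A : Subgroup K} (hA : Nat.card A = 11) {a x : K} (ha : a ∈ A) (ha1 : a ≠ 1)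
    (hx : x ∈ A) : ∃ i < 11, a ^ i = x := by
  rw [← eq_zpowers_of_mem hA ha ha1] at hx
  haveI : Fact (Nat.Prime 11) := ⟨by norm_num⟩
  have hfin : IsOfFinOrder a := orderOf_pos_iff.mp (by rw [orderOf_eleven hA ha ha1]; norm_num)
  obtain ⟨n, rfl⟩ := hfin.mem_powers_iff_mem_zpowers.mpr hx
  refine ⟨n % 11, Nat.mod_lt _ (by norm_num), ?_⟩
  show a ^ (n % 11) = a ^ n
  conv_rhs => rw [← pow_mod_orderOf, orderOf_eleven hA ha ha1]

/-- a group of order 660 and simple -/
structure Six (K : Type u) [Group K] : Prop where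
  card : Nat.card K = 660
  simple : IsSimpleGroup K

section
variable [Finite K] (h : Six K)
include h

theorem Six.sylow_eq {A : Subgroup K} (hA : Nat.card A = 11) :
    ∃ P : Sylow 11 K, (P : Subgroup K) = A := by
  haveI : Fact (Nat.Prime 11) := ⟨by norm_num⟩
  refine ⟨Sylow.ofCard A ?_, rfl⟩
  rw [hA, h.card, show (660 : ℕ) = 11 * 60 from rfl, Nat.factorization_mul (by norm_num) (by norm_num),
    Finsupp.add_apply, (show Nat.Prime 11 by norm_num).factorization_self,
    Nat.factorization_eq_zero_of_not_dvd (by norm_num : ¬ 11 ∣ 60)]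
  rfl

theorem Six.card_of_sylow (P : Sylow 11 K) : Nat.card (P : Subgroup K) = 11 := by
  haveI : Fact (Nat.Prime 11) := ⟨by norm_num⟩
  rw [P.card_eq_multiplicity, h.card, show (660 : ℕ) = 11 * 60 from rfl,
    Nat.factorization_mul (by norm_num) (by norm_num),
    Finsupp.add_apply, (show Nat.Prime 11 by norm_num).factorization_self,
    Nat.factorization_eq_zero_of_not_dvd (by norm_num : ¬ 11 ∣ 60)]
  rfl

theorem Six.card_sylows : Nat.card (Sylow 11 K) = 12 := by
  haveI : Fact (Nat.Prime 11) := ⟨by norm_num⟩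
  obtain ⟨P⟩ : Nonempty (Sylow 11 K) := inferInstance
  have hd := P.card_dvd_index
  have hi : (P : Subgroup K).index = 60 := by
    have := (P : Subgroup K).card_mul_index
    rw [h.card_of_sylow P, h.card] at this
    omega
  have hm : Nat.card (Sylow 11 K) ≡ 1 [MOD 11] := card_sylow_modEq_one 11 K
  rw [hi] at hd
  have hle : Nat.card (Sylow 11 K) ≤ 60 := Nat.le_of_dvd (by norm_num) hd
  have hne : Nat.card (Sylow 11 K) ≠ 1 := by
    intro h1
    have := h.simple
    have hN : normalizer ((P : Subgroup K) : Set K) = ⊤ := by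
      exact Subgroup.index_eq_one.mp (P.card_eq_index_normalizer.symm.trans h1)
    rcases IsSimpleGroup.eq_bot_or_eq_top_of_normal _ (normalizer_eq_top_iff.mp hN) with h2 | h2
    · have := h.card_of_sylow P; rw [h2, card_bot] at this; norm_num at this
    · have := h.card_of_sylow P; rw [h2, card_top, h.card] at this; norm_num at this
  have key : ∀ n ≤ 60, n ∣ 60 → n % 11 = 1 → n ≠ 1 → n = 12 := by decide
  exact key _ hle hd hm hne

theorem Six.card_points : Nat.card {A : Subgroup K // Nat.card A = 11} = 12 := by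
  haveI : Fact (Nat.Prime 11) := ⟨by norm_num⟩
  rw [← h.card_sylows]
  refine (Nat.card_congr (Equiv.ofBijective
    (fun P : Sylow 11 K => (⟨P, h.card_of_sylow P⟩ : {A : Subgroup K // Nat.card A = 11}))
    ⟨fun P Q hPQ => Sylow.ext (congrArg Subtype.val hPQ), fun A => ?_⟩)).symm
  obtain ⟨P, hP⟩ := h.sylow_eq A.2
  exact ⟨P, Subtype.ext hP⟩

theorem Six.conjugate {A B : Subgroup K} (hA : Nat.card A = 11) (hB : Nat.card B = 11) :
    ∃ g : K, cj g A = B := by
  haveI : Fact (Nat.Prime 11) := ⟨by norm_num⟩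
  obtain ⟨P, rfl⟩ := h.sylow_eq hA
  obtain ⟨Q, rfl⟩ := h.sylow_eq hB
  obtain ⟨g, hg⟩ := MulAction.exists_smul_eq K P Q
  exact ⟨g, by rw [← hg]; rfl⟩

theorem Six.card_normalizer {A : Subgroup K} (hA : Nat.card A = 11) :
    Nat.card (normalizer (A : Set K)) = 55 := by
  haveI : Fact (Nat.Prime 11) := ⟨by norm_num⟩
  obtain ⟨P, rfl⟩ := h.sylow_eq hA
  have := (normalizer ((P : Subgroup K) : Set K)).card_mul_index
  have hi : (normalizer ((P : Subgroup K) : Set K)).index = 12 :=
    P.card_eq_index_normalizer.symm.trans h.card_sylows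
  rw [hi, h.card] at this
  omega

theorem Six.centralizer_eq {A : Subgroup K} (hA : Nat.card A = 11) :
    centralizer (A : Set K) = A := by
  haveI : Fact (Nat.Prime 11) := ⟨by norm_num⟩
  haveI : IsCyclic A := isCyclic_of_prime_card hA
  have hle : A ≤ centralizer (A : Set K) := A.le_centralizer
  have hdvd := card_dvd_of_le (centralizer_le_normalizer (A : Set K))
  rw [h.card_normalizer hA] at hdvd
  have hA' := card_dvd_of_le hle
  rw [hA] at hA'
  have key : ∀ n ≤ 55, n ∣ 55 → 11 ∣ n → n = 11 ∨ n = 55 := by decide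
  rcases key _ (Nat.le_of_dvd (by norm_num) hdvd) hdvd hA' with h1 | h1
  · exact (eq_of_le_of_card_ge hle (by rw [h1, hA])).symm
  · exfalso
    obtain ⟨P, rfl⟩ := h.sylow_eq hA
    have heq : centralizer ((P : Subgroup K) : Set K) = normalizer ((P : Subgroup K) : Set K) :=
      eq_of_le_of_card_ge (centralizer_le_normalizer _) (by rw [h1, h.card_normalizer hA])
    have hcomp := MonoidHom.ker_transferSylow_isComplement' P heq.ge
    have := h.simple
    have hk := hcomp.card_mul
    rw [h.card_of_sylow P, h.card] at hk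
    rcases IsSimpleGroup.eq_bot_or_eq_top_of_normal _
      (inferInstance : (MonoidHom.transferSylow P heq.ge).ker.Normal) with h2 | h2
    · rw [h2, card_bot] at hk; omega
    · rw [h2, card_top, h.card] at hk; omega

theorem Six.gen {A B : Subgroup K} (hA : Nat.card A = 11) (hB : Nat.card B = 11) (hne : A ≠ B) :
    A ⊔ B = ⊤ := by
  haveI : Fact (Nat.Prime 11) := ⟨by norm_num⟩
  set H := A ⊔ B
  -- every subgroup of order eleven lies in the join
  have hcount : Nat.card {C : Subgroup K // Nat.card C = 11 ∧ C ≤ H} = 12 := by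
    have hmod : Nat.card (Sylow 11 H) ≡ 1 [MOD 11] := card_sylow_modEq_one 11 H
    have hcardS : ∀ P : Sylow 11 H, Nat.card (P : Subgroup H) = 11 := by
      intro P
      have h11 : 11 ∣ Nat.card H := hA ▸ card_dvd_of_le le_sup_left
      have hH : Nat.card H ∣ 660 := h.card ▸ card_subgroup_dvd_card H
      obtain ⟨k, hk⟩ := h11
      rw [P.card_eq_multiplicity, hk]
      have h121 : ¬ 11 ∣ k := by
        rintro ⟨m, rfl⟩
        rw [hk] at hH
        have : 121 ∣ 660 := (dvd_mul_right 121 m).trans (by rw [show 121 * m = 11 * (11 * m) by ring]; exact hH)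
        norm_num at this
      have hk0 : k ≠ 0 := by rintro rfl; exact Nat.card_pos.ne' (hk.trans (by simp))
      rw [Nat.factorization_mul (by norm_num) hk0, Finsupp.add_apply,
        (show Nat.Prime 11 by norm_num).factorization_self, Nat.factorization_eq_zero_of_not_dvd h121]
      rfl
    have e : Nat.card (Sylow 11 H) = Nat.card {C : Subgroup K // Nat.card C = 11 ∧ C ≤ H} := by
      refine Nat.card_congr (Equiv.ofBijective
        (fun P : Sylow 11 H => (⟨(P : Subgroup H).map H.subtype,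
          by rw [card_map_of_injective H.subtype_injective, hcardS P], map_subtype_le _⟩ :
          {C : Subgroup K // Nat.card C = 11 ∧ C ≤ H})) ⟨fun P Q hPQ => Sylow.ext
            (map_injective H.subtype_injective (congrArg Subtype.val hPQ)), fun C => ?_⟩)
      have hC : Nat.card (C.1.subgroupOf H) = 11 := by
        rw [Nat.card_congr (subgroupOfEquivOfLe C.2.2).toEquiv, C.2.1]
      obtain ⟨P, hP⟩ := (IsPGroup.of_card (n := 1) (show Nat.card (C.1.subgroupOf H) = 11 ^ 1 by
        rw [hC, pow_one])).exists_le_sylow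
      refine ⟨P, Subtype.ext ?_⟩
      show (P : Subgroup H).map H.subtype = C.1
      rw [← eq_of_le_of_card_ge hP (by rw [hC, hcardS P]), map_subgroupOf_eq_of_le C.2.2]
    rw [e] at hmod
    have hle : Nat.card {C : Subgroup K // Nat.card C = 11 ∧ C ≤ H} ≤ 12 := by
      rw [← h.card_points]
      exact Nat.card_le_card_of_injective (fun C => ⟨C.1, C.2.1⟩)
        fun C D hCD => by simpa [Subtype.ext_iff] using hCD
    have hge : 2 ≤ Nat.card {C : Subgroup K // Nat.card C = 11 ∧ C ≤ H} := by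
      haveI : Nontrivial {C : Subgroup K // Nat.card C = 11 ∧ C ≤ H} :=
        ⟨⟨A, hA, le_sup_left⟩, ⟨B, hB, le_sup_right⟩, fun e => hne (congrArg Subtype.val e)⟩
      exact Finite.one_lt_card
    have key : ∀ n ≤ 12, 2 ≤ n → n % 11 = 1 → n = 12 := by decide
    exact key _ hle hge hmod
  have hall : ∀ C : Subgroup K, Nat.card C = 11 → C ≤ H := by
    intro C hC
    have hbij : Function.Bijective (fun C : {C : Subgroup K // Nat.card C = 11 ∧ C ≤ H} =>
        (⟨C.1, C.2.1⟩ : {C : Subgroup K // Nat.card C = 11})) :=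
      (Nat.bijective_iff_injective_and_card _).mpr
        ⟨fun C D hCD => by simpa [Subtype.ext_iff] using hCD, by rw [hcount, h.card_points]⟩
    obtain ⟨D, hD⟩ := hbij.2 ⟨C, hC⟩
    rw [← show D.1 = C from congrArg Subtype.val hD]
    exact D.2.2
  have := h.simple
  rcases IsSimpleGroup.eq_bot_or_eq_top_of_normal _
    (normalClosure_normal : (normalClosure (A : Set K)).Normal) with h1 | h1
  · have h2 : A ≤ ⊥ := h1 ▸ le_normalClosure
    rw [le_bot_iff.mp h2, card_bot] at hA
    norm_num at hA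
  · rw [eq_top_iff, ← h1, normalClosure, Subgroup.closure_le]
    intro x hx
    obtain ⟨a, ha, hax⟩ := Group.mem_conjugatesOfSet_iff.mp hx
    obtain ⟨g, rfl⟩ := isConj_iff.mp hax
    refine hall (cj g A) ?_ (mem_cj.mpr (by simpa [mul_assoc] using ha))
    rw [card_map_of_injective (MulEquiv.injective _), hA]

/-- The normaliser of a point is transitive on the others. -/
theorem Six.move {A B C : Subgroup K} (hA : Nat.card A = 11) (hB : Nat.card B = 11)
    (hC : Nat.card C = 11) (hBA : B ≠ A) (hCA : C ≠ A) : ∃ a ∈ A, cj a B = C := by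
  have hinj : Function.Injective (fun a : A => (⟨cj (a : K) B, by
      rw [card_map_of_injective (MulEquiv.injective _), hB]⟩ : {D : Subgroup K // Nat.card D = 11})) := by
    intro a b hab
    have e : cj (a : K) B = cj (b : K) B := congrArg Subtype.val hab
    by_contra hne
    have hd : ((b : K)⁻¹ * a) ∈ normalizer (B : Set K) := by
      rw [mem_normalizer_iff_cj, ← cj_cj, e, cj_cj, inv_mul_cancel, cj_one]
    have hA' : ((b : K)⁻¹ * a) ∈ A := A.mul_mem (A.inv_mem b.2) a.2
    have hne' : (b : K)⁻¹ * a ≠ 1 := fun e => hne (Subtype.ext (inv_mul_eq_one.mp e).symm)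
    have hAN : A ≤ normalizer (B : Set K) := by
      rw [← eq_zpowers_of_mem hA hA' hne', zpowers_le]; exact hd
    haveI : Fact (Nat.Prime 11) := ⟨by norm_num⟩
    obtain ⟨Q, rfl⟩ := h.sylow_eq hB
    obtain ⟨P, rfl⟩ := h.sylow_eq hA
    have hPQ := (IsPGroup.of_card (n := 1) (show Nat.card (P : Subgroup K) = 11 ^ 1 by
      rw [hA, pow_one])).inf_normalizer_sylow Q
    replace hPQ := (inf_eq_left.mpr hAN).symm.trans hPQ
    exact hBA (eq_of_le_of_card_ge (hPQ.le.trans inf_le_right) (by rw [hA, hB])).symm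
  have hne : ∀ a : A, cj (a : K) B ≠ A := fun a e => hBA (by
    have h2 := congrArg (cj (a : K)⁻¹) e
    rw [cj_cj, inv_mul_cancel, cj_one] at h2
    rw [h2]
    exact mem_normalizer_iff_cj.mp (le_normalizer (A.inv_mem a.2)))
  let f : A → {D : {D : Subgroup K // Nat.card D = 11} // D ≠ ⟨A, hA⟩} := fun a =>
    ⟨⟨cj (a : K) B, by rw [card_map_of_injective (MulEquiv.injective _), hB]⟩,
      fun e => hne a (congrArg Subtype.val e)⟩
  have hf : Function.Bijective f := by
    refine (Nat.bijective_iff_injective_and_card _).mpr ⟨fun a b hab => hinj ?_, ?_⟩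
    · exact congrArg Subtype.val hab
    · classical
      haveI : Fintype {D : Subgroup K // Nat.card D = 11} := Fintype.ofFinite _
      rw [hA, Nat.card_eq_fintype_card, Fintype.card_subtype_compl, Fintype.card_subtype_eq,
        ← Nat.card_eq_fintype_card, h.card_points]
  obtain ⟨a, ha⟩ := hf.2 ⟨⟨C, hC⟩, fun e => hCA (congrArg Subtype.val e)⟩
  exact ⟨a, a.2, congrArg (fun D => D.1.1) ha⟩

theorem Six.pair_card {A B : Subgroup K} (hA : Nat.card A = 11) (hB : Nat.card B = 11) (hne : A ≠ B) :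
    Nat.card ↥(normalizer (A : Set K) ⊓ normalizer (B : Set K)) = 5 := by
  classical
  let N := normalizer (A : Set K)
  let D := normalizer (A : Set K) ⊓ normalizer (B : Set K)
  let f : A × D → N := fun p => ⟨(p.1 : K) * p.2, N.mul_mem (le_normalizer p.1.2) p.2.2.1⟩
  have hf : Function.Bijective f := by
    constructor
    · rintro ⟨a, d⟩ ⟨a', d'⟩ e
      have e' : (a : K) * d = a' * d' := congrArg Subtype.val e
      have hmem : (a' : K)⁻¹ * a ∈ normalizer (B : Set K) := by
        rw [show (a' : K)⁻¹ * a = d' * (d : K)⁻¹ from by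
          rw [eq_mul_inv_iff_mul_eq, mul_assoc, e', inv_mul_cancel_left]]
        exact (normalizer (B : Set K)).mul_mem d'.2.2 ((normalizer (B : Set K)).inv_mem d.2.2)
      have ha : (a' : K)⁻¹ * a = 1 := by
        by_contra h1
        have hAN : A ≤ normalizer (B : Set K) := by
          rw [← eq_zpowers_of_mem hA (A.mul_mem (A.inv_mem a'.2) a.2) h1, zpowers_le]; exact hmem
        haveI : Fact (Nat.Prime 11) := ⟨by norm_num⟩
        obtain ⟨Q, rfl⟩ := h.sylow_eq hB
        obtain ⟨P, rfl⟩ := h.sylow_eq hA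
        have hPQ := (IsPGroup.of_card (n := 1) (show Nat.card (P : Subgroup K) = 11 ^ 1 by
          rw [hA, pow_one])).inf_normalizer_sylow Q
        replace hPQ := (inf_eq_left.mpr hAN).symm.trans hPQ
        exact hne (eq_of_le_of_card_ge (hPQ.le.trans inf_le_right) (by rw [hA, hB]))
      have ha' : a = a' := Subtype.ext (inv_mul_eq_one.mp ha).symm
      subst ha'
      exact Prod.ext rfl (Subtype.ext (mul_left_cancel e'))
    · intro n
      have hn : cj (n : K) A = A := mem_normalizer_iff_cj.mp n.2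
      have hnB : cj (n : K) B ≠ A := fun e => hne (by
        have h2 := congrArg (cj (n : K)⁻¹) e
        rw [cj_cj, inv_mul_cancel, cj_one] at h2
        rw [h2]
        exact (mem_normalizer_iff_cj.mp (N.inv_mem n.2)).symm)
      obtain ⟨a, ha, e⟩ := h.move hA hB (C := cj (n : K) B)
        (by rw [card_map_of_injective (MulEquiv.injective _), hB]) hne.symm hnB
      refine ⟨(⟨a, ha⟩, ⟨a⁻¹ * n, N.mul_mem (N.inv_mem (le_normalizer ha)) n.2,
        mem_normalizer_iff_cj.mpr ?_⟩), Subtype.ext (mul_inv_cancel_left a n)⟩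
      rw [← cj_cj, ← e, cj_cj, inv_mul_cancel, cj_one]
  have := Nat.card_congr (Equiv.ofBijective f hf)
  rw [Nat.card_prod, hA, h.card_normalizer hA] at this
  show Nat.card D = 5
  omega

theorem Six.fix_two {A B C : Subgroup K} (hA : Nat.card A = 11) (hB : Nat.card B = 11)
    (hC : Nat.card C = 11) (hne : A ≠ B) {y : K} (hy1 : y ≠ 1) (hyA : cj y A = A) (hyB : cj y B = B)
    (hyC : cj y C = C) : C = A ∨ C = B := by
  by_contra hcon
  push Not at hcon
  obtain ⟨a, ha, e⟩ := h.move hA hB hC hne.symm hcon.1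
  have ha1 : a ≠ 1 := by rintro rfl; rw [cj_one] at e; exact hcon.2 e.symm
  have hyN := mem_normalizer_iff_cj.mpr hyA
  -- the commutator lies in A and fixes B
  have hx : a⁻¹ * (y * a * y⁻¹) ∈ A := A.mul_mem (A.inv_mem ha)
    ((mem_normalizer_iff.mp hyN a).mp ha)
  have hfix : a⁻¹ * (y * a * y⁻¹) ∈ normalizer (B : Set K) := by
    rw [mem_normalizer_iff_cj, ← cj_cj a⁻¹, ← cj_cj (y * a) y⁻¹, ← cj_cj y a]
    have hyB' : cj y⁻¹ B = B := by
      conv_lhs => rw [← hyB]
      rw [cj_cj, inv_mul_cancel, cj_one]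
    rw [hyB', e, hyC, ← e, cj_cj, inv_mul_cancel, cj_one]
  have h1 : a⁻¹ * (y * a * y⁻¹) = 1 := by
    by_contra h1
    have hmem : a⁻¹ * (y * a * y⁻¹) ∈ normalizer (A : Set K) ⊓ normalizer (B : Set K) :=
      ⟨le_normalizer hx, hfix⟩
    have := orderOf_dvd_natCard (⟨_, hmem⟩ : ↥(normalizer (A : Set K) ⊓ normalizer (B : Set K)))
    rw [h.pair_card hA hB hne, ← Subgroup.orderOf_coe, orderOf_eleven hA hx h1] at this
    norm_num at this
  have hya : y * a * y⁻¹ = a := (inv_mul_eq_one.mp h1).symm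
  have hyC' : y ∈ A := by
    rw [← h.centralizer_eq hA, mem_centralizer_iff]
    intro m hm
    obtain ⟨i, -, rfl⟩ := mem_pow hA ha ha1 hm
    exact ((show Commute y a from mul_inv_eq_iff_eq_mul.mp hya).pow_right i).eq.symm
  have hmem : y ∈ normalizer (A : Set K) ⊓ normalizer (B : Set K) :=
    ⟨hyN, mem_normalizer_iff_cj.mpr hyB⟩
  have := orderOf_dvd_natCard (⟨y, hmem⟩ : ↥(normalizer (A : Set K) ⊓ normalizer (B : Set K)))
  rw [h.pair_card hA hB hne, ← Subgroup.orderOf_coe, orderOf_eleven hA hyC' hy1] at this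
  norm_num at this

end

theorem six_of (h : IsL2 K) : Six K := ⟨card_l2 h, simple_l2 h⟩

/-- Two points carry a frame. -/
theorem frame_at [Finite K] (h : IsL2 K) {A B : Subgroup K} (hA : Nat.card A = 11) (hB : Nat.card B = 11)
    (hne : A ≠ B) : ∃ a b : K, Frame a b ∧ a ∈ A ∧ b ∈ B ∧ a ≠ 1 ∧ b ≠ 1 := by
  have h6 := six_of h
  haveI : Fact (Nat.Prime 11) := ⟨by norm_num⟩
  obtain ⟨a, b, hF, ha1⟩ := exists_frame h
  have hb1 : b ≠ 1 := by
    intro hb
    have := hF.swap_a
    rw [hb] at this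
    simp only [one_pow, mul_one] at this
    exact ha1 (conj_eq_one_iff.mp this)
  have hca : Nat.card (zpowers a) = 11 := by
    rw [Nat.card_zpowers, orderOf_eq_prime hF.oa ha1]
  have hcb : Nat.card (zpowers b) = 11 := by
    rw [Nat.card_zpowers, orderOf_eq_prime hF.ob hb1]
  have hab : zpowers a ≠ zpowers b := by
    intro e
    obtain ⟨n, hn, hn'⟩ := mem_pow hcb (mem_zpowers b) hb1 (e ▸ mem_zpowers a)
    have hwa : (a * b ^ 6 * a) * a * (a * b ^ 6 * a)⁻¹ = a := by
      rw [← hn']; group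
    have h3 : a = b ^ 6 := hwa.symm.trans hF.swap_a
    have h6' := (hF.invol 1 (by norm_num) 1 (by norm_num)).mpr (Or.inl rfl)
    rw [pow_one, pow_one, h3, ← pow_succ, ← pow_add] at h6'
    have hd := orderOf_dvd_of_pow_eq_one h6'
    rw [orderOf_eq_prime hF.ob hb1] at hd
    norm_num at hd
  obtain ⟨g, hg⟩ := h6.conjugate hca hA
  have hgb : cj g (zpowers b) ≠ A := by
    rw [← hg]
    exact fun e => hab (Subgroup.map_injective (MulEquiv.injective _) e).symm
  obtain ⟨c, hc, e⟩ := h6.move hA (B := cj g (zpowers b)) (C := B)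
    (by rw [card_map_of_injective (MulEquiv.injective _), hcb]) hB hgb hne.symm
  refine ⟨MulAut.conj (c * g) a, MulAut.conj (c * g) b,
    hF.map (MulAut.conj (c * g)).toMonoidHom (MulEquiv.injective _), ?_, ?_, ?_, ?_⟩
  · have hAA : cj (c * g) (zpowers a) = A := by
      rw [← cj_cj, hg, mem_normalizer_iff_cj.mp (le_normalizer hc)]
    rw [← hAA]; exact mem_map_of_mem _ (mem_zpowers a)
  · rw [← e, cj_cj]; exact mem_map_of_mem _ (mem_zpowers b)
  · exact fun e => ha1 ((MulEquiv.map_eq_one_iff _).mp e)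
  · exact fun e => hb1 ((MulEquiv.map_eq_one_iff _).mp e)

end Eleven
end H77
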