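import Cfsg.Agent.H97.J1Out
import Cfsg.Agent.H97.J1Invol
import Cfsg.Agent.H77.Eleven.LFacts

/-!
Facts about a group isomorphic to `J₁`: its Sylow 11-subgroups and the twelve of them fixed by an
involution.
-/

set_option autoImplicit false
set_option maxRecDepth 100000

namespace H77
namespace Eleven

open Subgroup
open H63.Eleven (cj mem_cj cj_cj cj_one)

abbrev J11 : Type := ↥Cfsg.Spor.J1

/-- the point stabiliser of the table -/
def pointStab : Set J11 := {g | ∃ k < 110, H97.J1.code g = H97.J1.hc k}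

/-- the point stabiliser as a subgroup -/
noncomputable def stabGroup : Subgroup J11 where
  carrier := pointStab
  one_mem' := ⟨0, by norm_num, by rw [H97.J1.code_one, H97.J1.hc_zero]⟩
  mul_mem' := by
    rintro a b ⟨k, hk, ea⟩ ⟨l, hl, eb⟩
    obtain ⟨m, hm, e⟩ := H97.J1.hc_mul_hc k hk l hl
    exact ⟨m, hm, by rw [H97.J1.code_mul, ea, eb, e]⟩
  inv_mem' := by
    rintro a ⟨k, hk, ea⟩
    exact H97.J1.inv_mem_table (a : GL (Fin 7) (ZMod 11)) ⟨k, hk, ea⟩

theorem card_stabGroup : Nat.card stabGroup = 110 := by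
  have hex : ∀ k : Fin 110, ∃ g : stabGroup, H97.J1.code (g : J11) = H97.J1.hc k := fun k => by
    obtain ⟨g, hg, e⟩ := H97.J1.inJ_hc k k.isLt
    exact ⟨⟨⟨g, hg⟩, k, k.isLt, e⟩, e⟩
  choose f hf using hex
  have hb : Function.Bijective f := by
    constructor
    · intro a b e
      have h : H97.J1.hc a = H97.J1.hc b := by rw [← hf a, ← hf b, e]
      by_contra hne
      rcases Nat.lt_or_gt_of_ne (fun e' => hne (Fin.ext e')) with hlt | hgt
      · have := H97.allB_spec (H97.allB_spec H97.J1.hDistinctOK_all b b.isLt) a hlt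
        simp [h] at this
      · have := H97.allB_spec (H97.allB_spec H97.J1.hDistinctOK_all a a.isLt) b hgt
        simp [h] at this
    · intro g
      obtain ⟨k, hk, e⟩ := g.2
      exact ⟨⟨k, hk⟩, Subtype.ext (H97.J1.code_inj (by rw [hf, e]))⟩
  rw [← Nat.card_congr (Equiv.ofBijective f hb), Nat.card_fin]

universe u

variable {K : Type u} [Group K] [Finite K] (h : Cfsg.Spor.IsoJ1 K)
include h

theorem j_simple : IsSimpleGroup K := by
  obtain ⟨e⟩ := h
  haveI := H97.J1.isSimpleGroup_J1
  haveI : Nontrivial K := e.toEquiv.nontrivial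
  exact IsSimpleGroup.isSimpleGroup_of_surjective e.symm.toMonoidHom e.symm.surjective

theorem j_card : Nat.card K = 175560 := by
  obtain ⟨e⟩ := h
  rw [Nat.card_congr e.toEquiv, H97.J1.card_J1]

theorem j_ord (g : K) : orderOf g ∈ H97.J1.classOrd := by
  obtain ⟨e⟩ := h
  rw [← orderOf_injective e.toMonoidHom e.injective g]
  exact H97.J1.orderOf_mem _

theorem j_no_four (g : K) : orderOf g ≠ 4 := fun h4 => by
  have := j_ord h g
  rw [h4] at this
  exact (by decide : 4 ∉ H97.J1.classOrd) this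

theorem j_invol_conj {s t : K} (hs : orderOf s = 2) (ht : orderOf t = 2) :
    ∃ g : K, g * s * g⁻¹ = t := by
  obtain ⟨e⟩ := h
  obtain ⟨n, hn⟩ := isConj_iff.1 (H97.J1.isConj_of_orderOf_two (x := e s) (y := e t)
    ((orderOf_injective e.toMonoidHom e.injective s).trans hs)
    ((orderOf_injective e.toMonoidHom e.injective t).trans ht))
  exact ⟨e.symm n, e.injective (by rw [map_mul, map_mul, map_inv, e.apply_symm_apply, hn])⟩

theorem j_inner (α : MulAut K) : ∃ g : K, ∀ k, α k = g * k * g⁻¹ := by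
  obtain ⟨e⟩ := h
  obtain ⟨g, hg⟩ := H97.J1.mulAut_eq_conj ((e.symm.trans α).trans e)
  refine ⟨e.symm g, fun k => e.injective ?_⟩
  have := DFunLike.congr_fun hg (e k)
  simp only [MulAut.conj_apply, MulEquiv.trans_apply, MulEquiv.symm_apply_apply] at this
  rw [map_mul, map_mul, map_inv, e.apply_symm_apply, this]

theorem j_card_involutions : Nat.card {x : K // orderOf x = 2} = 1463 := by
  obtain ⟨e⟩ := h
  have h1 : Nat.card {x : K // orderOf x = 2} = Nat.card {x : J11 // orderOf x = 2} :=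
    Nat.card_congr (e.toEquiv.subtypeEquiv fun x => by
      rw [show orderOf (e.toEquiv x) = orderOf x from orderOf_injective e.toMonoidHom e.injective x])
  have hb : Function.Bijective fun i : Fin 1463 =>
      (⟨H97.J1.inv2 i, H97.J1.orderOf_inv2 i.isLt⟩ : {x : J11 // orderOf x = 2}) := by
    constructor
    · intro a b e'
      exact Fin.ext (H97.J1.inv2_inj a.isLt b.isLt (congrArg Subtype.val e'))
    · rintro ⟨x, hx⟩
      obtain ⟨j, hj, rfl⟩ := H97.J1.exists_inv2 hx
      exact ⟨⟨j, hj⟩, rfl⟩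
  rw [h1, ← Nat.card_congr (Equiv.ofBijective _ hb), Nat.card_fin]

theorem j_sylow_eq {A : Subgroup K} (hA : Nat.card A = 11) :
    ∃ P : Sylow 11 K, (P : Subgroup K) = A := by
  haveI : Fact (Nat.Prime 11) := ⟨by norm_num⟩
  refine ⟨Sylow.ofCard A ?_, rfl⟩
  rw [hA, j_card h, show (175560 : ℕ) = 11 * 15960 from rfl,
    Nat.factorization_mul (by norm_num) (by norm_num), Finsupp.add_apply,
    (show Nat.Prime 11 by norm_num).factorization_self,
    Nat.factorization_eq_zero_of_not_dvd (by norm_num : ¬ 11 ∣ 15960)]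
  rfl

theorem j_card_of_sylow (P : Sylow 11 K) : Nat.card (P : Subgroup K) = 11 := by
  haveI : Fact (Nat.Prime 11) := ⟨by norm_num⟩
  rw [P.card_eq_multiplicity, j_card h, show (175560 : ℕ) = 11 * 15960 from rfl,
    Nat.factorization_mul (by norm_num) (by norm_num), Finsupp.add_apply,
    (show Nat.Prime 11 by norm_num).factorization_self,
    Nat.factorization_eq_zero_of_not_dvd (by norm_num : ¬ 11 ∣ 15960)]
  rfl

theorem j_centralizer {A : Subgroup K} (hA : Nat.card A = 11) :
    centralizer (A : Set K) = A := by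
  haveI : Fact (Nat.Prime 11) := ⟨by norm_num⟩
  haveI : IsCyclic A := isCyclic_of_prime_card hA
  haveI := IsCyclic.commutative (α := A)
  have hle : A ≤ centralizer (A : Set K) := fun a ha => mem_centralizer_iff.mpr fun b hb =>
    congrArg Subtype.val (mul_comm' (⟨b, hb⟩ : A) ⟨a, ha⟩)
  refine (eq_of_le_of_card_ge hle ?_).symm
  obtain ⟨a, ha⟩ := exists_prime_orderOf_dvd_card' (G := A) 11 (hA ▸ dvd_rfl)
  have hp : IsPGroup 11 ↥(centralizer (A : Set K)) := by
    intro x
    have hx : orderOf (x : K) ∣ 11 := by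
      have hc : Commute (a : K) (x : K) := mem_centralizer_iff.mp x.2 a a.2
      have hm := j_ord h (x : K)
      by_cases h11 : orderOf (x : K) = 11
      · rw [h11]
      have hcop : (orderOf (a : K)).Coprime (orderOf (x : K)) := by
        rw [orderOf_coe, ha, (show Nat.Prime 11 by norm_num).coprime_iff_not_dvd]
        exact (by decide : ∀ n ∈ H97.J1.classOrd, n ≠ 11 → ¬ 11 ∣ n) _ hm h11
      have hm2 := j_ord h ((a : K) * x)
      rw [hc.orderOf_mul_eq_mul_orderOf_of_coprime hcop, orderOf_coe, ha] at hm2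
      rw [(by decide : ∀ n ∈ H97.J1.classOrd, 11 * n ∈ H97.J1.classOrd → n = 1) _ hm hm2]
      norm_num
    exact ⟨1, Subtype.ext (by
      rw [SubgroupClass.coe_pow, pow_one, OneMemClass.coe_one]
      exact orderOf_dvd_iff_pow_eq_one.mp hx)⟩
  obtain ⟨k, hk⟩ := IsPGroup.iff_card.mp hp
  have hd : 11 ^ k ∣ 175560 := hk ▸ j_card h ▸ card_subgroup_dvd_card _
  rw [hk, hA]
  have hk1 : k ≤ 1 := by
    by_contra hcon
    have h121 : 11 ^ 2 ∣ 175560 := (pow_dvd_pow 11 (by omega)).trans hd
    norm_num at h121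
  calc 11 ^ k ≤ 11 ^ 1 := Nat.pow_le_pow_right (by norm_num) hk1
    _ = 11 := pow_one 11

theorem j_norm_dvd {A : Subgroup K} (hA : Nat.card A = 11) :
    Nat.card (normalizer (A : Set K)) ∣ 110 := by
  haveI : Fact (Nat.Prime 11) := ⟨by norm_num⟩
  haveI : IsCyclic A := isCyclic_of_prime_card hA
  have hk : Nat.card A.normalizerMonoidHom.ker = 11 := by
    rw [normalizerMonoidHom_ker, Nat.card_congr (subgroupOfEquivOfLe ?_).toEquiv, j_centralizer h hA, hA]
    rw [j_centralizer h hA]
    exact le_normalizer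
  have hr : Nat.card A.normalizerMonoidHom.range ∣ 10 := by
    have := card_subgroup_dvd_card A.normalizerMonoidHom.range
    rwa [IsCyclic.card_mulAut, hA, Nat.totient_prime (by norm_num)] at this
  have hm := A.normalizerMonoidHom.ker.card_mul_index
  rw [index_ker, hk] at hm
  rw [← hm]
  exact (Nat.mul_dvd_mul_left 11 hr)

theorem j_normalizer {A : Subgroup K} (hA : Nat.card A = 11) :
    Nat.card (normalizer (A : Set K)) = 110 := by
  haveI : Fact (Nat.Prime 11) := ⟨by norm_num⟩
  have hh := h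
  obtain ⟨e⟩ := hh
  set H : Subgroup K := stabGroup.map e.symm.toMonoidHom with hH
  have hHc : Nat.card H = 110 := by
    rw [hH, card_map_of_injective e.symm.injective, card_stabGroup]
  haveI : Finite H := inferInstance
  obtain ⟨Q⟩ : Nonempty (Sylow 11 H) := inferInstance
  have hQc : Nat.card (Q : Subgroup H) = 11 := by
    rw [Q.card_eq_multiplicity, hHc, show (110 : ℕ) = 11 * 10 from rfl,
      Nat.factorization_mul (by norm_num) (by norm_num), Finsupp.add_apply,
      (show Nat.Prime 11 by norm_num).factorization_self,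
      Nat.factorization_eq_zero_of_not_dvd (by norm_num : ¬ 11 ∣ 10)]
    rfl
  have hQn : normalizer ((Q : Subgroup H) : Set H) = ⊤ := by
    have hd := Q.card_dvd_index
    have hi : (Q : Subgroup H).index = 10 := by
      have := (Q : Subgroup H).card_mul_index
      rw [hQc, hHc] at this
      omega
    rw [hi] at hd
    have hm : Nat.card (Sylow 11 H) % 11 = 1 := card_sylow_modEq_one 11 H
    have h1 : Nat.card (Sylow 11 H) = 1 :=
      (by decide : ∀ n ≤ 10, n ∣ 10 → n % 11 = 1 → n = 1) _ (Nat.le_of_dvd (by norm_num) hd) hd hm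
    exact index_eq_one.mp (Q.card_eq_index_normalizer.symm.trans h1)
  set A0 : Subgroup K := (Q : Subgroup H).map H.subtype with hA0
  have hA0c : Nat.card A0 = 11 := by rw [hA0, card_map_of_injective H.subtype_injective, hQc]
  have hle : H ≤ normalizer (A0 : Set K) := by
    intro x hx
    have hq : (⟨x, hx⟩ : H) ∈ normalizer ((Q : Subgroup H) : Set H) := hQn ▸ mem_top _
    exact le_normalizer_map H.subtype ⟨⟨x, hx⟩, hq, rfl⟩
  have h0 : Nat.card (normalizer (A0 : Set K)) = 110 :=
    Nat.dvd_antisymm (j_norm_dvd h hA0c) (hHc ▸ card_dvd_of_le hle)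
  obtain ⟨P, rfl⟩ := j_sylow_eq h hA
  obtain ⟨P0, hP0⟩ := j_sylow_eq h hA0c
  rw [← hP0] at h0
  have e1 : Nat.card (Sylow 11 K) = (normalizer ((P : Subgroup K) : Set K)).index :=
    P.card_eq_index_normalizer
  have e2 : Nat.card (Sylow 11 K) = (normalizer ((P0 : Subgroup K) : Set K)).index :=
    P0.card_eq_index_normalizer
  have m1 := (normalizer ((P : Subgroup K) : Set K)).card_mul_index
  have m2 := (normalizer ((P0 : Subgroup K) : Set K)).card_mul_index
  rw [← e1, j_card h] at m1
  rw [← e2, j_card h, h0] at m2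
  have hs : Nat.card (Sylow 11 K) = 1596 := by omega
  rw [hs] at m1
  omega

theorem j_card_sylow : Nat.card {A : Subgroup K // Nat.card A = 11} = 1596 := by
  haveI : Fact (Nat.Prime 11) := ⟨by norm_num⟩
  have hb : Function.Bijective fun P : Sylow 11 K =>
      (⟨P, j_card_of_sylow h P⟩ : {A : Subgroup K // Nat.card A = 11}) := by
    constructor
    · intro P Q e'
      exact Sylow.ext (congrArg Subtype.val e')
    · rintro ⟨A, hA⟩
      obtain ⟨P, hP⟩ := j_sylow_eq h hA
      exact ⟨P, Subtype.ext hP⟩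
  rw [← Nat.card_congr (Equiv.ofBijective _ hb)]
  obtain ⟨P⟩ : Nonempty (Sylow 11 K) := inferInstance
  have m1 := (normalizer ((P : Subgroup K) : Set K)).card_mul_index
  rw [show (normalizer ((P : Subgroup K) : Set K)).index = Nat.card (Sylow 11 K) from
    P.card_eq_index_normalizer.symm, j_card h, j_normalizer h (j_card_of_sylow h P)] at m1
  omega

omit h in
theorem sq_one_exp : ∀ i < 11, i * i % 11 = 1 → i = 1 ∨ i = 10 := by decide

/-- an involution normalising a Sylow 11-subgroup inverts it -/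
theorem j_invol_inverts {A : Subgroup K} (hA : Nat.card A = 11) {z : K} (hz : orderOf z = 2)
    (hzA : cj z A = A) {a : K} (ha : a ∈ A) : z * a * z⁻¹ = a⁻¹ := by
  haveI : Fact (Nat.Prime 11) := ⟨by norm_num⟩
  obtain ⟨g, hg⟩ := exists_prime_orderOf_dvd_card' (G := A) 11 (hA ▸ dvd_rfl)
  rw [← orderOf_coe] at hg
  have hg1 : (g : K) ≠ 1 := fun e1 => by rw [e1, orderOf_one] at hg; norm_num at hg
  have hz2 : z * z = 1 := by rw [← pow_two, ← hz, pow_orderOf_eq_one]
  obtain ⟨i, hi, hie⟩ := mem_pow hA g.2 hg1 (x := z * g * z⁻¹)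
    (hzA.le ⟨g, g.2, rfl⟩)
  have hsq : (g : K) ^ (i * i) = g := by
    rw [pow_mul, hie, conj_pow, hie, show z * (z * g * z⁻¹) * z⁻¹ = z * z * g * (z * z)⁻¹ by group,
      hz2, one_mul, inv_one, mul_one]
  have hmod : i * i % 11 = 1 := by
    have h1 : (g : K) ^ (i * i) = (g : K) ^ 1 := by rw [hsq, pow_one]
    rw [pow_inj_mod, hg] at h1
    simpa using h1
  obtain ⟨n, hn, rfl⟩ := mem_pow hA g.2 hg1 ha
  rcases sq_one_exp i hi hmod with rfl | rfl
  · exfalso
    rw [pow_one] at hie
    have hzc : z ∈ centralizer (A : Set K) := mem_centralizer_iff.mpr fun b hb => by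
      obtain ⟨m, -, rfl⟩ := mem_pow hA g.2 hg1 hb
      exact (Commute.pow_right (mul_inv_eq_iff_eq_mul.mp hie.symm) m).symm
    rw [j_centralizer h hA] at hzc
    have hz1 : z ≠ 1 := fun e1 => by rw [e1, orderOf_one] at hz; norm_num at hz
    rw [orderOf_eleven hA hzc hz1] at hz
    norm_num at hz
  · rw [← conj_pow, ← hie, ← inv_pow]
    congr 1
    refine eq_inv_of_mul_eq_one_left ?_
    rw [← pow_succ]
    have h11 := pow_orderOf_eq_one (g : K)
    rw [hg] at h11
    exact h11

theorem j_invol_in_normalizer {A : Subgroup K} (hA : Nat.card A = 11) :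
    Nat.card {z : K // orderOf z = 2 ∧ cj z A = A} = 11 := by
  haveI : Fact (Nat.Prime 2) := ⟨Nat.prime_two⟩
  obtain ⟨y, hy⟩ := exists_prime_orderOf_dvd_card' (G := normalizer (A : Set K)) 2
    (by rw [j_normalizer h hA]; norm_num)
  rw [← orderOf_coe] at hy
  have hyA : cj (y : K) A = A := mem_normalizer_iff_cj.mp y.2
  have hy2 : (y : K) * y = 1 := by rw [← pow_two, ← hy, pow_orderOf_eq_one]
  have hyi : (y : K)⁻¹ = y := inv_eq_of_mul_eq_one_left hy2
  have hmem : ∀ a : A, orderOf ((a : K) * y) = 2 ∧ cj ((a : K) * y) A = A := fun a => by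
    constructor
    · refine orderOf_eq_prime ?_ fun e1 => ?_
      · have := j_invol_inverts h hA hy hyA a.2
        rw [hyi] at this
        rw [pow_two, show (a : K) * y * (a * y) = a * (y * a * y) by group, this, mul_inv_cancel]
      · have e2 : (y : K) ∈ A := by
          rw [eq_inv_of_mul_eq_one_right e1]; exact inv_mem a.2
        have hy1 : (y : K) ≠ 1 := fun e3 => by rw [e3, orderOf_one] at hy; norm_num at hy
        rw [orderOf_eleven hA e2 hy1] at hy
        norm_num at hy
    · rw [← cj_cj, hyA]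
      exact mem_normalizer_iff_cj.mp (le_normalizer a.2)
  have hb : Function.Bijective fun a : A =>
      (⟨(a : K) * y, hmem a⟩ : {z : K // orderOf z = 2 ∧ cj z A = A}) := by
    constructor
    · intro a b e'
      exact Subtype.ext (mul_right_cancel (congrArg Subtype.val e'))
    · rintro ⟨z, hz, hzA⟩
      have hc : z * (y : K) ∈ centralizer (A : Set K) := mem_centralizer_iff.mpr fun b hb => by
        have h1 := j_invol_inverts h hA hy hyA hb
        have h2 := j_invol_inverts h hA hz hzA (inv_mem hb)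
        rw [inv_inv] at h2
        rw [show z * (y : K) * b = z * (y * b * (y : K)⁻¹) * y by group, h1,
          show z * b⁻¹ * y = z * b⁻¹ * z⁻¹ * (z * y) by group, h2]
      rw [j_centralizer h hA] at hc
      exact ⟨⟨_, hc⟩, Subtype.ext (by show z * y * y = z; rw [mul_assoc, hy2, mul_one])⟩
  rw [← Nat.card_congr (Equiv.ofBijective _ hb), hA]

theorem j_fix_twelve {t : K} (ht : orderOf t = 2) :
    Nat.card {A : Subgroup K // Nat.card A = 11 ∧ cj t A = A} = 12 := by
  let F : K → Type u := fun s => {A : Subgroup K // Nat.card A = 11 ∧ cj s A = A}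
  have hconst : ∀ s : {x : K // orderOf x = 2}, Nat.card (F s.1) = Nat.card (F t) := fun s => by
    obtain ⟨g, hg⟩ := j_invol_conj h s.2 ht
    refine Nat.card_congr
      ⟨fun A => ⟨cj g A.1, by rw [card_map_of_injective (MulEquiv.injective _), A.2.1], by
          rw [cj_cj, show t * g = g * s.1 by rw [← hg]; group, ← cj_cj, A.2.2]⟩,
        fun A => ⟨cj g⁻¹ A.1, by rw [card_map_of_injective (MulEquiv.injective _), A.2.1], by
          rw [cj_cj, show s.1 * g⁻¹ = g⁻¹ * t by rw [← hg]; group, ← cj_cj, A.2.2]⟩,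
        fun A => Subtype.ext (by show cj g⁻¹ (cj g A.1) = A.1; rw [cj_cj, inv_mul_cancel, cj_one]),
        fun A => Subtype.ext (by show cj g (cj g⁻¹ A.1) = A.1; rw [cj_cj, mul_inv_cancel, cj_one])⟩
  let e : (Σ s : {x : K // orderOf x = 2}, F s.1) ≃
      Σ A : {A : Subgroup K // Nat.card A = 11}, {z : K // orderOf z = 2 ∧ cj z A.1 = A.1} :=
    ⟨fun p => ⟨⟨p.2.1, p.2.2.1⟩, ⟨p.1.1, p.1.2, p.2.2.2⟩⟩,
      fun p => ⟨⟨p.2.1, p.2.2.1⟩, ⟨p.1.1, p.1.2, p.2.2.2⟩⟩, fun _ => rfl, fun _ => rfl⟩
  have := Fintype.ofFinite {x : K // orderOf x = 2}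
  have := Fintype.ofFinite {A : Subgroup K // Nat.card A = 11}
  have h1 := Nat.card_congr e
  rw [Nat.card_sigma, Nat.card_sigma, Finset.sum_congr rfl fun s _ => hconst s,
    Finset.sum_congr rfl fun A _ => j_invol_in_normalizer h A.2, Finset.sum_const, Finset.sum_const,
    Finset.card_univ, Finset.card_univ, ← Nat.card_eq_fintype_card, ← Nat.card_eq_fintype_card,
    j_card_involutions h, j_card_sylow h] at h1
  simp only [smul_eq_mul] at h1
  show Nat.card (F t) = 12
  omega

end Eleven
end H77
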